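import Cfsg.Prelude.Def_Blocks
import Cfsg.Agent.Lib.Char.Degree
import Cfsg.Agent.Lib.Transfer.Basic

/-!
A noncentral element `g` seen by exactly one nonlinear irreducible character `χ`: character values,
and the structure of the quotient by the kernel of `χ`.
-/

set_option autoImplicit false
set_option linter.style.haveILetI false

namespace Cfsg.Agent.OneNonzero

open Cfsg.Agent Cfsg.Agent.Char
open scoped ComplexConjugate commutatorElement

universe u

variable {G : Type u} [Group G] [Finite G]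

open scoped Classical in
/-- The linear characters sum to `n` on `G'` and to `0` elsewhere. -/
theorem sum_linear [Fintype (Cfsg.IrrCharacter G)] (g x : G) :
    ∑ ψ ∈ Finset.univ.filter (fun ψ : Cfsg.IrrCharacter G => Cfsg.charDegree (ψ : G → ℂ) = 1),
      (ψ : G → ℂ) g * conj ((ψ : G → ℂ) x) =
      if x⁻¹ * g ∈ commutator G then ((commutator G).index : ℂ) else 0 := by
  haveI := Fintype.ofFinite G
  haveI : Finite (Abelianization G) := inferInstanceAs (Finite (G ⧸ commutator G))
  haveI : Fintype (Abelianization G →* ℂˣ) := Fintype.ofFinite _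
  haveI : NeZero (Monoid.exponent (Abelianization G) : ℂ) :=
    ⟨Nat.cast_ne_zero.mpr Monoid.exponent_ne_zero_of_finite⟩
  let ι : (Abelianization G →* ℂˣ) → Cfsg.IrrCharacter G := fun f =>
    ⟨fun y => (f (Abelianization.of y) : ℂ), isIrrCharacter_linear (f.comp Abelianization.of)⟩
  have hι : ∀ f y, (ι f : G → ℂ) y = (f (Abelianization.of y) : ℂ) := fun f y => rfl
  have hval : ∀ f : Abelianization G →* ℂˣ,
      (ι f : G → ℂ) g * conj ((ι f : G → ℂ) x) = (f (Abelianization.of (x⁻¹ * g)) : ℂ) := by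
    intro f
    rw [← IsCharacter.inv (IsIrrCharacter.isCharacter (ι f).2) x, hι, hι]
    simp only [map_mul, map_inv, Units.val_mul, mul_comm]
  have hsum : ∑ f : Abelianization G →* ℂˣ, (f (Abelianization.of (x⁻¹ * g)) : ℂ) =
      if x⁻¹ * g ∈ commutator G then ((commutator G).index : ℂ) else 0 := by
    split_ifs with h
    · rw [show Abelianization.of (x⁻¹ * g) = 1 from (QuotientGroup.eq_one_iff _).2 h]
      simp only [map_one, Units.val_one, Finset.sum_const, Finset.card_univ, nsmul_eq_mul, mul_one]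
      rw [← Nat.card_eq_fintype_card, CommGroup.card_monoidHom_of_hasEnoughRootsOfUnity]
      rfl
    · obtain ⟨f₀, hf₀⟩ := CommGroup.exists_apply_ne_one_of_hasEnoughRootsOfUnity
        (Abelianization G) ℂ (a := Abelianization.of (x⁻¹ * g))
        (fun hh => h ((QuotientGroup.eq_one_iff _).1 hh))
      have hshift : ∑ f : Abelianization G →* ℂˣ, (f (Abelianization.of (x⁻¹ * g)) : ℂ) =
          (f₀ (Abelianization.of (x⁻¹ * g)) : ℂ) *
            ∑ f : Abelianization G →* ℂˣ, (f (Abelianization.of (x⁻¹ * g)) : ℂ) := by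
        rw [Finset.mul_sum]
        refine (Fintype.sum_equiv (Equiv.mulLeft f₀) _ _ fun f => ?_).symm
        simp
      exact (mul_eq_zero.1 (show ((f₀ (Abelianization.of (x⁻¹ * g)) : ℂ) - 1) *
        ∑ f : Abelianization G →* ℂˣ, (f (Abelianization.of (x⁻¹ * g)) : ℂ) = 0 by
          rw [sub_mul, ← hshift, one_mul, sub_self])).resolve_left
        (sub_ne_zero.2 fun hh => hf₀ (Units.val_eq_one.1 hh))
  rw [← hsum]
  refine (Finset.sum_bij (fun f _ => ι f) ?_ ?_ ?_ ?_).symm
  · intro f _
    rw [Finset.mem_filter]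
    exact ⟨Finset.mem_univ _, by simp [Cfsg.charDegree, hι]⟩
  · intro f _ f' _ he
    ext y
    exact congrFun (congrArg Subtype.val he) y
  · intro ψ hψ
    rw [Finset.mem_filter] at hψ
    have h1 : (ψ : G → ℂ) 1 = 1 := by rw [CharX.irr_deg, hψ.2, Nat.cast_one]
    obtain ⟨f, hf⟩ := exists_hom_of_degree_one (IsIrrCharacter.isCharacter ψ.2) h1
    refine ⟨Abelianization.lift f, Finset.mem_univ _, Subtype.ext ?_⟩
    rw [hf]
    funext y
    simp [hι]
  · intro f _
    exact (hval f).symm

/-- The hypothesis of the theorem. -/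
structure OneData (g : G) (χ : Cfsg.IrrCharacter G) : Prop where
  noncentral : g ∉ Subgroup.center G
  nonlinear : Cfsg.charDegree (χ : G → ℂ) ≠ 1
  ne_zero : (χ : G → ℂ) g ≠ 0
  other : ∀ ψ : Cfsg.IrrCharacter G, Cfsg.charDegree (ψ : G → ℂ) ≠ 1 → ψ ≠ χ → (ψ : G → ℂ) g = 0

variable {g : G} {χ : Cfsg.IrrCharacter G}

open scoped Classical in
/-- Column orthogonality against `g`. -/
theorem OneData.column (h : OneData g χ) (x : G) :
    (if x⁻¹ * g ∈ commutator G then ((commutator G).index : ℂ) else 0) +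
      (χ : G → ℂ) g * conj ((χ : G → ℂ) x) =
    if IsConj g x then (Nat.card (Subgroup.centralizer ({g} : Set G)) : ℂ) else 0 := by
  haveI := Fintype.ofFinite G
  haveI := Fintype.ofFinite (Cfsg.IrrCharacter G)
  rw [← sum_linear]
  have hrhs : (if IsConj g x then (Nat.card (Subgroup.centralizer ({g} : Set G)) : ℂ) else 0) =
      ∑ ψ : Cfsg.IrrCharacter G, (ψ : G → ℂ) g * conj ((ψ : G → ℂ) x) := by
    split_ifs with hc
    · exact (by convert (column_orth_of_isConj hc).symm)
    · exact (by convert (column_orth_of_not_isConj hc).symm)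
  have hsingle : ∑ ψ ∈ Finset.univ.filter
      (fun ψ : Cfsg.IrrCharacter G => ¬ Cfsg.charDegree (ψ : G → ℂ) = 1),
        (ψ : G → ℂ) g * conj ((ψ : G → ℂ) x) = (χ : G → ℂ) g * conj ((χ : G → ℂ) x) := by
    refine Finset.sum_eq_single χ (fun ψ hψ hne => ?_) (fun hχ => ?_)
    · rw [h.other ψ (Finset.mem_filter.1 hψ).2 hne, zero_mul]
    · refine absurd (Finset.mem_filter.2 ⟨Finset.mem_univ χ, ?_⟩) hχ
      exact h.nonlinear
  rw [← hsingle, Finset.sum_filter_add_sum_filter_not]
  convert hrhs.symm using 2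

theorem OneData.mem_commutator (h : OneData g χ) :
    g ∈ commutator G ∧
      (χ : G → ℂ) g = -(((commutator G).index : ℂ) / (χ : G → ℂ) 1) := by
  classical
  have h1 := h.column 1
  have hne : ¬ IsConj g 1 := fun hc => h.noncentral
    (by rw [isConj_one_left.1 hc]; exact one_mem _)
  obtain ⟨d, hd, hdeq⟩ := IsIrrCharacter.exists_degree χ.2
  rw [if_neg hne, inv_one, one_mul, hdeq, map_natCast] at h1
  have hd0 : (d : ℂ) ≠ 0 := hdeq ▸ IsIrrCharacter.one_ne_zero χ.2
  split_ifs at h1 with hg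
  · refine ⟨hg, ?_⟩
    rw [hdeq, ← neg_div, eq_div_iff hd0, eq_neg_iff_add_eq_zero, add_comm]
    exact h1
  · rw [zero_add, mul_eq_zero] at h1
    exact absurd h1 (not_or.2 ⟨h.ne_zero, hd0⟩)

theorem OneData.eq_zero_of_notMem (h : OneData g χ) {x : G} (hx : x ∉ commutator G) :
    (χ : G → ℂ) x = 0 := by
  classical
  have h1 := h.column x
  have hne : ¬ IsConj g x := by
    intro hc
    obtain ⟨c, hc⟩ := isConj_iff.1 hc
    exact hx (hc ▸ Subgroup.Normal.conj_mem inferInstance g h.mem_commutator.1 c)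
  have hxg : x⁻¹ * g ∉ commutator G := fun hh =>
    hx (by simpa using mul_mem h.mem_commutator.1 (inv_mem hh))
  rw [if_neg hne, if_neg hxg, zero_add, mul_eq_zero, map_eq_zero] at h1
  exact h1.resolve_left h.ne_zero

theorem OneData.eq_deg_of_mem (h : OneData g χ) {x : G} (hx : x ∈ commutator G)
    (hne : ¬ IsConj g x) : (χ : G → ℂ) x = (χ : G → ℂ) 1 := by
  classical
  have h1 := h.column x
  rw [if_neg hne, if_pos (mul_mem (inv_mem hx) h.mem_commutator.1), h.mem_commutator.2] at h1
  obtain ⟨d, hd, hdeq⟩ := IsIrrCharacter.exists_degree χ.2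
  have hd0 : (d : ℂ) ≠ 0 := hdeq ▸ IsIrrCharacter.one_ne_zero χ.2
  have hn0 : ((commutator G).index : ℂ) ≠ 0 := Nat.cast_ne_zero.2 Subgroup.index_ne_zero_of_finite
  rw [hdeq] at h1 ⊢
  have h2 : conj ((χ : G → ℂ) x) = (d : ℂ) := by
    field_simp at h1
    refine mul_left_cancel₀ hn0 ?_
    linear_combination -h1
  have h3 := congrArg conj h2
  rwa [Complex.conj_conj, map_natCast] at h3

omit [Finite G] in
theorem OneData.apply_conj (_h : OneData g χ) {x : G} (hx : IsConj g x) :
    (χ : G → ℂ) x = (χ : G → ℂ) g :=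
  (isClassFunction_iff.1 (IsCharacter.isClassFunction (IsIrrCharacter.isCharacter χ.2)) g x hx).symm

theorem OneData.apply_ne_deg (h : OneData g χ) : (χ : G → ℂ) g ≠ (χ : G → ℂ) 1 := by
  obtain ⟨d, hd, hdeq⟩ := IsIrrCharacter.exists_degree χ.2
  have hd0 : (d : ℂ) ≠ 0 := hdeq ▸ IsIrrCharacter.one_ne_zero χ.2
  rw [h.mem_commutator.2, hdeq]
  intro he
  field_simp at he
  have h2 : ((commutator G).index + d ^ 2 : ℕ) = (0 : ℂ) := by
    push_cast
    linear_combination -he
  rw [Nat.cast_eq_zero] at h2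
  have := Nat.pos_of_ne_zero (Subgroup.index_ne_zero_of_finite (H := commutator G))
  omega

theorem OneData.commutator_eq (h : OneData g χ) :
    (commutator G : Set G) =
      {x : G | (χ : G → ℂ) x = (χ : G → ℂ) 1} ∪ {y : G | IsConj g y} := by
  ext x
  simp only [SetLike.mem_coe, Set.mem_union, Set.mem_ofPred_eq]
  constructor
  · intro hx
    by_cases hc : IsConj g x
    · exact Or.inr hc
    · exact Or.inl (h.eq_deg_of_mem hx hc)
  · rintro (hx | hx)
    · by_contra hxM
      rw [h.eq_zero_of_notMem hxM] at hx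
      exact IsIrrCharacter.one_ne_zero χ.2 hx.symm
    · obtain ⟨c, rfl⟩ := isConj_iff.1 hx
      exact Subgroup.Normal.conj_mem inferInstance g h.mem_commutator.1 c

open scoped Classical in
/-- `χ` is the only nonlinear irreducible character trivial on its kernel. -/
theorem OneData.unique (h : OneData g χ) (ψ : Cfsg.IrrCharacter G)
    (hψ : Cfsg.charDegree (ψ : G → ℂ) ≠ 1)
    (hker : ∀ x : G, (χ : G → ℂ) x = (χ : G → ℂ) 1 → (ψ : G → ℂ) x = (ψ : G → ℂ) 1) : ψ = χ := by
  by_contra hne
  haveI := Fintype.ofFinite G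
  have h0 := classInner_irr_of_ne ψ.2 χ.2 (fun hh => hne (Subtype.ext hh))
  rw [Cfsg.classInner, mul_eq_zero] at h0
  replace h0 := h0.resolve_left (inv_ne_zero (Nat.cast_ne_zero.2 Nat.card_pos.ne'))
  obtain ⟨d, hd, hdeq⟩ := IsIrrCharacter.exists_degree χ.2
  have hpt : ∀ x : G, (ψ : G → ℂ) x * conj ((χ : G → ℂ) x) =
      if (χ : G → ℂ) x = (χ : G → ℂ) 1 then (ψ : G → ℂ) 1 * (χ : G → ℂ) 1 else 0 := by
    intro x
    split_ifs with hx
    · rw [hker x hx, hx, hdeq, map_natCast]
    · by_cases hxM : x ∈ commutator G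
      · have hc : IsConj g x := by
          by_contra hc
          exact hx (h.eq_deg_of_mem hxM hc)
        rw [← isClassFunction_iff.1 (IsCharacter.isClassFunction (IsIrrCharacter.isCharacter ψ.2))
          g x hc, h.other ψ hψ hne, zero_mul]
      · rw [h.eq_zero_of_notMem hxM, map_zero, mul_zero]
  rw [Finset.sum_congr rfl fun x _ => hpt x, ← Finset.sum_filter, Finset.sum_const, nsmul_eq_mul]
    at h0
  refine mul_ne_zero (Nat.cast_ne_zero.2 (Finset.card_ne_zero.2 ⟨1, by simp⟩))
    (mul_ne_zero (IsIrrCharacter.one_ne_zero ψ.2) (IsIrrCharacter.one_ne_zero χ.2)) h0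

/-- Counting: `χ(1)² |K| = |g^G| n`. -/
theorem OneData.count (h : OneData g χ) {K : Subgroup G}
    (hK : ∀ x, x ∈ K ↔ (χ : G → ℂ) x = (χ : G → ℂ) 1) :
    Cfsg.charDegree (χ : G → ℂ) ^ 2 * Nat.card K =
      (Subgroup.centralizer ({g} : Set G)).index * (commutator G).index ∧
    Nat.card (commutator G) =
      Nat.card K + (Subgroup.centralizer ({g} : Set G)).index := by
  classical
  haveI := Fintype.ofFinite G
  set A := Finset.univ.filter (fun x : G => x ∈ K) with hA
  set B := classFinset g with hB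
  have hdisj : Disjoint A B := by
    rw [Finset.disjoint_left]
    intro x hxA hxB
    rw [hB, mem_classFinset] at hxB
    rw [hA, Finset.mem_filter, hK, h.apply_conj hxB] at hxA
    exact h.apply_ne_deg hxA.2
  have hmem : ∀ x, x ∈ A ∪ B ↔ x ∈ commutator G := by
    intro x
    have := Set.ext_iff.1 h.commutator_eq x
    simp only [SetLike.mem_coe, Set.mem_union, Set.mem_ofPred_eq] at this
    rw [this, Finset.mem_union, hA, hB, Finset.mem_filter, mem_classFinset, hK]
    simp
  have hcardA : A.card = Nat.card K := by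
    rw [hA, Nat.card_eq_fintype_card, Fintype.card_subtype]
  have hcardM : Nat.card (commutator G) = Nat.card K + (Subgroup.centralizer ({g} : Set G)).index := by
    rw [← hcardA, ← card_classFinset, ← hB, ← Finset.card_union_of_disjoint hdisj,
      Nat.card_eq_fintype_card, Fintype.card_subtype]
    exact congrArg Finset.card (Finset.ext fun x => by simp [hmem])
  refine ⟨?_, hcardM⟩
  have hχ0 : ¬ (χ : G → ℂ) = fun _ => 1 := by
    intro he
    refine h.nonlinear ?_
    simp [Cfsg.charDegree, he]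
  have h0 := classInner_irr_of_ne χ.2 isIrrCharacter_one hχ0
  rw [Cfsg.classInner, mul_eq_zero] at h0
  replace h0 := h0.resolve_left (inv_ne_zero (Nat.cast_ne_zero.2 Nat.card_pos.ne'))
  simp only [map_one, mul_one] at h0
  rw [← Finset.sum_subset (Finset.subset_univ (A ∪ B)) (fun x _ hx =>
    h.eq_zero_of_notMem (fun hh => hx ((hmem x).2 hh))), Finset.sum_union hdisj, hB,
    sum_char_class (IsCharacter.isClassFunction (IsIrrCharacter.isCharacter χ.2))] at h0
  rw [Finset.sum_congr rfl (fun x hx => (hK x).1 (Finset.mem_filter.1 hx).2), Finset.sum_const,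
    nsmul_eq_mul, hcardA, h.mem_commutator.2, CharX.irr_deg] at h0
  have hd0 : (Cfsg.charDegree (χ : G → ℂ) : ℂ) ≠ 0 :=
    Nat.cast_ne_zero.2 (CharX.irr_deg_pos χ).ne'
  field_simp at h0
  rw [← Nat.cast_inj (R := ℂ)]
  push_cast
  linear_combination h0

/-- An element central modulo the kernel lies in `G'`. -/
theorem OneData.mem_of_central (h : OneData g χ) {K : Subgroup G} [K.Normal]
    (hK : ∀ x, x ∈ K ↔ (χ : G → ℂ) x = (χ : G → ℂ) 1) {z : G}
    (hz : ∀ x : G, Commute (z : G ⧸ K) (x : G ⧸ K)) : z ∈ commutator G := by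
  by_contra hzM
  obtain ⟨χ', -, he, hirr⟩ :=
    IsCharacter.deflate (IsIrrCharacter.isCharacter χ.2) K (fun x hx => (hK x).1 hx)
  obtain ⟨d, ρ, hρ, hρχ⟩ := hirr χ.2
  haveI := hρ
  obtain ⟨c, hc⟩ := schur_scalar ρ (ρ (z : G ⧸ K)) (fun x v => by
    obtain ⟨y, rfl⟩ := QuotientGroup.mk_surjective x
    rw [← Module.End.mul_apply, ← map_mul, (hz y).eq, map_mul, Module.End.mul_apply])
  have hval : (χ : G → ℂ) z = c * (χ : G → ℂ) 1 := by
    rw [← he z, ← he 1, ← hρχ, QuotientGroup.mk_one, Representation.char_one,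
      Representation.character, hc, map_smul, LinearMap.trace_id, smul_eq_mul]
  rw [h.eq_zero_of_notMem hzM, eq_comm, mul_eq_zero] at hval
  have hc0 : c = 0 := hval.resolve_right (IsIrrCharacter.one_ne_zero χ.2)
  rw [hc0, zero_smul] at hc
  have h1 : ρ ((z : G ⧸ K)⁻¹ * z) = 0 := by rw [map_mul, hc, mul_zero]
  rw [inv_mul_cancel, map_one] at h1
  have h2 : ρ.character 1 = 0 := by rw [Representation.character, map_one, h1, map_zero]
  rw [hρχ] at h2
  exact IsIrrCharacter.one_ne_zero χ.2 (by rw [← he 1, QuotientGroup.mk_one]; exact h2)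

end Cfsg.Agent.OneNonzero
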