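import Cfsg.Agent.Lib.OneNonzero.Singer
import Mathlib.GroupTheory.SpecificGroups.Cyclic
import Mathlib.RingTheory.IntegralDomain

/-!
A commuting, transitive set of automorphisms on `P / P'` makes it a finite field, one of the
automorphisms acting as a generator of the multiplicative group.
-/

set_option autoImplicit false
set_option linter.style.haveILetI false

open scoped commutatorElement

namespace Cfsg.Agent.OneNonzero

universe u

variable {P : Type u} [Group P] [Finite P]

theorem exists_singerData {p : ℕ} [hp : Fact p.Prime] (hP : IsPGroup p P) (S : Set (MulAut P))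
    (hcomm : ∀ a ∈ S, ∀ b ∈ S, ∀ x, (a (b x))⁻¹ * b (a x) ∈ commutator P)
    (htrans : ∀ x ∉ commutator P, ∀ y ∉ commutator P, ∃ a ∈ S, (a x)⁻¹ * y ∈ commutator P)
    (hne : commutator P ≠ ⊤)
    (hcls : ∀ x ∉ commutator P, ∀ u ∈ commutator P, ∃ t : P, t * x * t⁻¹ = x * u) :
    ∃ (F : Type u) (_ : Field F) (_ : Finite F) (_ : CharP F p) (θ : MulAut P) (π : P → F) (ω : F),
      SingerData p θ π ω := by
  classical
  let V := Additive (Abelianization P)
  let toV : P → V := fun x => Additive.ofMul (Abelianization.of x)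
  have htoV : ∀ x y, toV x = toV y ↔ x⁻¹ * y ∈ commutator P := fun x y =>
    (Additive.ofMul.injective.eq_iff).trans QuotientGroup.eq
  have htoVs : Function.Surjective toV := fun v => by
    obtain ⟨x, hx⟩ := QuotientGroup.mk_surjective (Additive.toMul v)
    exact ⟨x, congrArg Additive.ofMul hx⟩
  have htoV0 : ∀ x, toV x = 0 ↔ x ∈ commutator P := fun x =>
    (Additive.ofMul.injective.eq_iff' rfl).trans (QuotientGroup.eq_one_iff x)
  haveI : Finite (Abelianization P) := inferInstanceAs (Finite (P ⧸ commutator P))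
  haveI : Finite V := inferInstanceAs (Finite (Abelianization P))
  haveI : Finite (AddMonoid.End V) := Finite.of_injective (fun f : AddMonoid.End V => (f : V → V))
    DFunLike.coe_injective
  let A : MulAut P → AddMonoid.End V := fun a =>
    MonoidHom.toAdditive (MulEquiv.abelianizationCongr a).toMonoidHom
  have hA : ∀ a x, A a (toV x) = toV (a x) := fun a x => rfl
  have hAcomm : ∀ a ∈ S, ∀ b ∈ S, A a * A b = A b * A a := by
    intro a ha b hb
    refine DFunLike.ext _ _ fun v => ?_
    obtain ⟨x, rfl⟩ := htoVs v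
    exact (htoV _ _).2 (hcomm a ha b hb x)
  set R : Subring (AddMonoid.End V) := Subring.closure (A '' S) with hR
  have hAR : ∀ a ∈ S, A a ∈ R := fun a ha => Subring.subset_closure ⟨a, ha, rfl⟩
  have hcen : ∀ a ∈ S, ∀ r ∈ R, r * A a = A a * r := by
    intro a ha r hr
    have hle : R ≤ Subring.centralizer {A a} := Subring.closure_le.2 (by
      rintro _ ⟨b, hb, rfl⟩
      exact Subring.mem_centralizer_iff.2 fun g hg => by rw [hg, hAcomm a ha b hb])
    exact (Subring.mem_centralizer_iff.1 (hle hr) (A a) rfl).symm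
  have hmul : ∀ r s : R, r * s = s * r := by
    intro r s
    have hle : R ≤ Subring.centralizer {(r : AddMonoid.End V)} := Subring.closure_le.2 (by
      rintro _ ⟨b, hb, rfl⟩
      exact Subring.mem_centralizer_iff.2 fun g hg => by rw [hg, hcen b hb r r.2])
    exact Subtype.ext (Subring.mem_centralizer_iff.1 (hle s.2) (r : AddMonoid.End V) rfl)
  letI : CommRing R := { (inferInstance : Ring R) with mul_comm := hmul }
  obtain ⟨x₀, -, hx₀⟩ := SetLike.exists_of_lt (lt_top_iff_ne_top.2 hne)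
  set v₀ := toV x₀ with hv₀
  have hinj : ∀ r : R, r ≠ 0 → ∀ v, (r : AddMonoid.End V) v = 0 → v = 0 := by
    intro r hr v hv
    by_contra hv0
    refine hr (Subtype.ext (DFunLike.ext _ _ fun w => ?_))
    obtain ⟨x, rfl⟩ := htoVs v
    obtain ⟨y, rfl⟩ := htoVs w
    change (r : AddMonoid.End V) (toV y) = 0
    by_cases hy : y ∈ commutator P
    · rw [(htoV0 y).2 hy, map_zero]
    obtain ⟨a, ha, hay⟩ := htrans x (fun hh => hv0 ((htoV0 x).2 hh)) y hy
    rw [← (htoV _ _).2 hay, ← hA,
      show (r : AddMonoid.End V) (A a (toV x)) = A a ((r : AddMonoid.End V) (toV x)) from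
        DFunLike.congr_fun (hcen a ha r r.2) (toV x), hv, map_zero]
  have hv0 : v₀ ≠ 0 := fun hh => hx₀ ((htoV0 x₀).1 hh)
  haveI : Nontrivial R := ⟨⟨0, 1, fun hh => hv0
    (DFunLike.congr_fun (congrArg Subtype.val hh) v₀).symm⟩⟩
  haveI : NoZeroDivisors R := ⟨fun {r s} hrs => by
    by_contra hcon
    push Not at hcon
    exact hv0 (hinj s hcon.2 v₀ (hinj r hcon.1 _
      (DFunLike.congr_fun (congrArg Subtype.val hrs) v₀)))⟩
  haveI : IsDomain R := NoZeroDivisors.to_isDomain _
  haveI := Fintype.ofFinite R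
  letI : Field R := Fintype.fieldOfDomain R
  let ev : R → V := fun r => (r : AddMonoid.End V) v₀
  have hev : Function.Bijective ev := by
    refine ⟨fun r s hrs => ?_, fun v => ?_⟩
    · by_contra hne'
      refine hv0 (hinj (r - s) (sub_ne_zero.2 hne') v₀ ?_)
      change (r : AddMonoid.End V) v₀ - (s : AddMonoid.End V) v₀ = 0
      exact sub_eq_zero.2 hrs
    · obtain ⟨y, rfl⟩ := htoVs v
      by_cases hy : y ∈ commutator P
      · exact ⟨0, ((htoV0 y).2 hy).symm⟩
      obtain ⟨a, ha, hay⟩ := htrans x₀ hx₀ y hy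
      exact ⟨⟨A a, hAR a ha⟩, (hA a x₀).trans ((htoV _ _).2 hay)⟩
  let e : R ≃ V := Equiv.ofBijective ev hev
  let π : P → R := fun x => e.symm (toV x)
  have heπ : ∀ x, ev (π x) = toV x := fun x => e.apply_symm_apply _
  obtain ⟨u, hu⟩ := IsCyclic.exists_generator (α := Rˣ)
  obtain ⟨y, hy⟩ := htoVs (ev (u : R))
  have hyP : y ∉ commutator P := fun hh =>
    hv0 (hinj _ u.ne_zero v₀ (hy.symm.trans ((htoV0 y).2 hh)))
  obtain ⟨θ, hθS, hθy⟩ := htrans x₀ hx₀ y hyP
  have hθ : (⟨A θ, hAR θ hθS⟩ : R) = (u : R) :=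
    hev.1 (((hA θ x₀).trans ((htoV _ _).2 hθy)).trans hy)
  refine ⟨R, inferInstance, inferInstance, ?_, θ, π, (u : R), hP, ?_, ?_, ?_, ?_, ?_, hcls⟩
  · haveI : CharP R (ringChar R) := ringChar.charP R
    obtain ⟨n, hq, hn⟩ := FiniteField.card R (ringChar R)
    obtain ⟨k, hk⟩ := IsPGroup.iff_card.1 hP
    have hcard : Fintype.card R ∣ p ^ k := by
      rw [← hk, ← Nat.card_eq_fintype_card, Nat.card_congr e]
      exact Subgroup.card_quotient_dvd_card _
    rw [hn] at hcard
    have hdvd : ringChar R ∣ p ^ k := (dvd_pow_self _ n.pos.ne').trans hcard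
    rwa [← (Nat.prime_dvd_prime_iff_eq hq hp.out).1 (hq.dvd_of_dvd_pow hdvd)]
  · intro x y'
    refine hev.1 ?_
    change ev (π (x * y')) = (π x : AddMonoid.End V) v₀ + (π y' : AddMonoid.End V) v₀
    rw [heπ, show (π x : AddMonoid.End V) v₀ = toV x from heπ x,
      show (π y' : AddMonoid.End V) v₀ = toV y' from heπ y']
    rfl
  · intro r
    obtain ⟨x, hx⟩ := htoVs (ev r)
    exact ⟨x, hev.1 ((heπ x).trans hx)⟩
  · intro x
    rw [← htoV0, ← heπ x]
    exact ⟨fun hh => by rw [hh]; rfl, fun hh => hev.1 (hh.trans (show (0 : V) = ev 0 from rfl))⟩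
  · rw [orderOf_units, orderOf_eq_card_of_forall_mem_zpowers hu, Nat.card_units]
  · intro x
    refine hev.1 ?_
    change ev (π (θ x)) = ((u : R) : AddMonoid.End V) ((π x : AddMonoid.End V) v₀)
    rw [heπ, show (π x : AddMonoid.End V) v₀ = toV x from heπ x, ← hθ]
    exact (hA θ x).symm

end Cfsg.Agent.OneNonzero
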