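import Cfsg.Agent.Lib.OneNonzero.Weights
import Cfsg.Agent.Lib.Transfer.Fusion
import Mathlib.GroupTheory.Abelianization.Defs
import Mathlib.GroupTheory.GroupAction.ConjAct

/-!
A `p`-group `P` in which every `x ∉ P'` is conjugate to all of `x P'`, with an automorphism acting
as a Singer cycle on `P / P'`: its class is at most two and `x ^ p = 1` for odd `p`,
`x ^ 4 = 1` for `p = 2`.
-/

set_option autoImplicit false
set_option linter.style.haveILetI false

open scoped commutatorElement IsMulCommutative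

namespace Cfsg.Agent.OneNonzero

open Cfsg.Agent

universe u

section Comm

variable {Q : Type*} [Group Q]

theorem comm_mul_left {a b c : Q} (h : ⁅b, c⁆ ∈ Subgroup.center Q) :
    ⁅a * b, c⁆ = ⁅a, c⁆ * ⁅b, c⁆ := by
  calc ⁅a * b, c⁆ = a * ⁅b, c⁆ * (c * a⁻¹ * c⁻¹) := by simp only [commutatorElement_def]; group
    _ = ⁅b, c⁆ * (a * (c * a⁻¹ * c⁻¹)) := by rw [Subgroup.mem_center_iff.1 h a, mul_assoc]
    _ = (a * (c * a⁻¹ * c⁻¹)) * ⁅b, c⁆ := (Subgroup.mem_center_iff.1 h _).symm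
    _ = ⁅a, c⁆ * ⁅b, c⁆ := by simp only [commutatorElement_def]; group

theorem comm_mul_right {a b c : Q} (h : ⁅a, c⁆ ∈ Subgroup.center Q) :
    ⁅a, b * c⁆ = ⁅a, b⁆ * ⁅a, c⁆ := by
  calc ⁅a, b * c⁆ = ⁅a, b⁆ * (b * ⁅a, c⁆ * b⁻¹) := by simp only [commutatorElement_def]; group
    _ = ⁅a, b⁆ * ⁅a, c⁆ := by rw [Subgroup.mem_center_iff.1 h b, mul_inv_cancel_right]

theorem comm_central_left {v a : Q} (h : v ∈ Subgroup.center Q) : ⁅v, a⁆ = 1 :=
  commutatorElement_eq_one_iff_commute.2 (Subgroup.mem_center_iff.1 h a).symm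

theorem comm_central_right {v a : Q} (h : v ∈ Subgroup.center Q) : ⁅a, v⁆ = 1 :=
  commutatorElement_eq_one_iff_commute.2 (Subgroup.mem_center_iff.1 h a)

end Comm

/-- The hypotheses on `P`, its field model `π : P → F` and the Singer automorphism. -/
structure SingerData (p : ℕ) {P : Type u} [Group P] {F : Type u} [Field F] (θ : MulAut P)
    (π : P → F) (ω : F) : Prop where
  pgroup : IsPGroup p P
  add : ∀ x y, π (x * y) = π x + π y
  surj : Function.Surjective π
  ker : ∀ x, π x = 0 ↔ x ∈ commutator P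
  gen : orderOf ω = Nat.card F - 1
  equiv : ∀ x, π (θ x) = ω * π x
  cls : ∀ x ∉ commutator P, ∀ u ∈ commutator P, ∃ t : P, t * x * t⁻¹ = x * u

variable {p : ℕ} [hp : Fact p.Prime] {P : Type u} [Group P] [Finite P] {F : Type u} [Field F]
  [Finite F] [CharP F p] {θ : MulAut P} {π : P → F} {ω : F}

omit hp [Finite P] [Finite F] [CharP F p] in
theorem SingerData.eq_iff (h : SingerData p θ π ω) {x y : P} :
    π x = π y ↔ x⁻¹ * y ∈ commutator P := by
  have h1 : π 1 = 0 := (h.ker 1).2 (one_mem _)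
  have hinv : π x⁻¹ = - π x := eq_neg_of_add_eq_zero_left (by rw [← h.add, inv_mul_cancel, h1])
  rw [← h.ker, h.add, hinv, neg_add_eq_zero]

omit hp [Finite P] [Finite F] [CharP F p] in
theorem SingerData.pow_p_mem (h : SingerData p θ π ω) [CharP F p] (x : P) :
    x ^ p ∈ commutator P := by
  rw [← h.ker]
  have hn : ∀ n : ℕ, π (x ^ n) = n * π x := by
    intro n
    induction n with
    | zero => simpa using (h.ker 1).2 (one_mem _)
    | succ n ih => rw [pow_succ, h.add, ih]; push_cast; ring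
  rw [hn, CharP.cast_eq_zero, zero_mul]

omit hp [CharP F p] [Finite F] [Finite P] in
theorem SingerData.index_commutator (h : SingerData p θ π ω) :
    (commutator P).index = Nat.card F := by
  refine Nat.card_congr (Equiv.ofBijective
    (Quotient.lift π fun x y hxy => h.eq_iff.2 (QuotientGroup.leftRel_apply.1 hxy)) ⟨?_, ?_⟩)
  · intro a b
    induction a using Quotient.inductionOn with
    | _ x =>
      induction b using Quotient.inductionOn with
      | _ y => exact fun e => Quotient.sound (QuotientGroup.leftRel_apply.2 (h.eq_iff.1 e))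
  · intro z
    obtain ⟨x, hx⟩ := h.surj z
    exact ⟨Quotient.mk _ x, hx⟩

omit hp [CharP F p] [Finite F] in
/-- Sections of `P'` centralised modulo the lower one are smaller than `F`. -/
theorem SingerData.card_lt (h : SingerData p θ π ω) {M N : Subgroup P} [N.Normal]
    (hM : M ≤ commutator P) (hN : N ≤ commutator P) (hc : ⁅M, (⊤ : Subgroup P)⁆ ≤ N) :
    Nat.card (M.map (QuotientGroup.mk' N)) < Nat.card F := by
  obtain ⟨x, hx⟩ := h.surj 1
  have hxP : x ∉ commutator P := fun hh => one_ne_zero (hx.symm.trans ((h.ker x).2 hh))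
  set H := (commutator P).map (QuotientGroup.mk' N) with hH
  set Mb := M.map (QuotientGroup.mk' N) with hMb
  set C : Subgroup (P ⧸ N) := Subgroup.centralizer {(x : P ⧸ N)} with hC
  have hxH : (x : P ⧸ N) ∉ H := by
    rintro ⟨v, hv, hvx⟩
    have h1 := (QuotientGroup.eq (s := N)).1 hvx
    have := mul_mem hv (hN h1)
    rw [mul_inv_cancel_left] at this
    exact hxP this
  have hxC : (x : P ⧸ N) ∈ C := Subgroup.mem_centralizer_singleton_iff.2 rfl
  have hMC : Mb ≤ C := by
    rintro _ ⟨u, hu, rfl⟩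
    rw [hC, Subgroup.mem_centralizer_singleton_iff]
    refine (commutatorElement_eq_one_iff_commute.1 (?_ : ⁅(u : P ⧸ N), (x : P ⧸ N)⁆ = 1)).eq
    exact (QuotientGroup.eq_one_iff _).2
      (hc (Subgroup.commutator_mem_commutator hu (Subgroup.mem_top x)))
  have hlt : Nat.card Mb < Nat.card C := by
    refine lt_of_le_of_ne (Subgroup.card_le_of_le hMC) fun he => hxH ?_
    have := Subgroup.eq_of_le_of_card_ge hMC he.ge
    exact (Subgroup.map_mono hM) (show (x : P ⧸ N) ∈ Mb from this ▸ hxC)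
  refine hlt.trans_le (Nat.le_of_mul_le_mul_left ?_ (Nat.card_pos (α := H)))
  have ht : ∀ v : H, ∃ t : P ⧸ N, t * x * t⁻¹ = x * v := by
    rintro ⟨_, u, hu, rfl⟩
    obtain ⟨t, ht⟩ := h.cls x hxP u hu
    exact ⟨t, congrArg (fun w : P => (w : P ⧸ N)) ht⟩
  choose t ht using ht
  have hinj : Function.Injective fun z : H × C => t z.1 * (z.2 : P ⧸ N) := by
    rintro ⟨v, c⟩ ⟨v', c'⟩ he
    have hfix : ∀ c : C, (c : P ⧸ N) * x * (c : P ⧸ N)⁻¹ = x := fun c => by
      rw [Subgroup.mem_centralizer_singleton_iff.1 c.2, mul_inv_cancel_right]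
    have h1 : ∀ (v : H) (c : C), (t v * c) * x * (t v * c)⁻¹ = x * (v : P ⧸ N) := fun v c => by
      rw [show (t v * c) * (x : P ⧸ N) * (t v * c)⁻¹ = t v * (c * x * (c : P ⧸ N)⁻¹) * (t v)⁻¹
        by group, hfix, ht]
    have h2 : v = v' := by
      have := h1 v c
      simp only at he
      rw [he, h1] at this
      exact Subtype.ext (mul_left_cancel this).symm
    subst h2
    exact Prod.ext rfl (Subtype.ext (mul_left_cancel he))
  have hle := Nat.card_le_card_of_injective _ hinj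
  rw [Nat.card_prod] at hle
  refine hle.trans (le_of_eq ?_)
  have hidx : H.index = Nat.card F := by
    rw [hH, Subgroup.index_map_eq _ (QuotientGroup.mk'_surjective N)
      (by rwa [QuotientGroup.ker_mk']), h.index_commutator]
  rw [← hidx, mul_comm, Subgroup.index_mul_card]

omit hp [Finite P] [Finite F] [CharP F p] in
theorem SingerData.pi_iterate (h : SingerData p θ π ω) (k : ℕ) (x : P) :
    π (θ^[k] x) = ω ^ k * π x := by
  induction k with
  | zero => simp
  | succ k ih => rw [Function.iterate_succ_apply', h.equiv, ih, pow_succ', mul_assoc]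

omit [Finite F] [CharP F p] [Finite P] hp in
theorem iterate_mem {S : Subgroup P} [hS : S.Characteristic] (θ : MulAut P) {x : P} (hx : x ∈ S)
    (k : ℕ) : θ^[k] x ∈ S := by
  induction k with
  | zero => exact hx
  | succ k ih =>
    rw [Function.iterate_succ_apply']
    have := Subgroup.mem_map_of_mem θ.toMonoidHom ih
    rwa [Subgroup.characteristic_iff_map_eq.1 hS θ] at this

/-- The class of `P` is at most two. -/
theorem SingerData.commutator_le_center (h : SingerData p θ π ω) :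
    commutator P ≤ Subgroup.center P := by
  haveI := h.pgroup.isNilpotent
  obtain ⟨a, ha⟩ : ∃ a, Nat.card F = p ^ a := by
    haveI := Fintype.ofFinite F
    obtain ⟨n, -, hn⟩ := FiniteField.card F p
    exact ⟨n, by rw [Nat.card_eq_fintype_card]; exact hn⟩
  haveI : (commutator P).Characteristic := inferInstance
  set γ3 : Subgroup P := ⁅commutator P, (⊤ : Subgroup P)⁆ with hγ3
  set γ4 : Subgroup P := ⁅γ3, (⊤ : Subgroup P)⁆ with hγ4
  have h32 : γ3 ≤ commutator P := Subgroup.commutator_le_left _ _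
  have h43 : γ4 ≤ γ3 := Subgroup.commutator_le_left _ _
  haveI : γ3.Characteristic := Subgroup.commutator_characteristic _ _
  haveI : γ4.Characteristic := Subgroup.commutator_characteristic _ _
  choose s hs using h.surj
  have hsec : ∀ x : P, (s (π x))⁻¹ * x ∈ commutator P := fun x => h.eq_iff.1 (hs _)
  -- the first layer
  set H : Subgroup (P ⧸ γ3) := (commutator P).map (QuotientGroup.mk' γ3) with hH
  have hHc : H ≤ Subgroup.center (P ⧸ γ3) := by
    rintro _ ⟨u, hu, rfl⟩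
    rw [Subgroup.mem_center_iff]
    intro q
    obtain ⟨t, rfl⟩ := QuotientGroup.mk'_surjective γ3 q
    refine (commutatorElement_eq_one_iff_commute.1 ?_).eq.symm
    exact (QuotientGroup.eq_one_iff _).2
      (Subgroup.commutator_mem_commutator hu (Subgroup.mem_top t))
  haveI : IsMulCommutative H := ⟨⟨fun a b =>
    Subtype.ext (Subgroup.mem_center_iff.1 (hHc b.2) a)⟩⟩
  have hmem : ∀ x y : P, ⁅(x : P ⧸ γ3), (y : P ⧸ γ3)⁆ ∈ H := fun x y =>
    ⟨⁅x, y⁆, Subgroup.commutator_mem_commutator (Subgroup.mem_top x) (Subgroup.mem_top y), rfl⟩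
  have hcl : ∀ x y x' : P, x⁻¹ * x' ∈ commutator P →
      ⁅(x' : P ⧸ γ3), (y : P ⧸ γ3)⁆ = ⁅(x : P ⧸ γ3), (y : P ⧸ γ3)⁆ := by
    intro x y x' hv
    have hvc : ((x⁻¹ * x' : P) : P ⧸ γ3) ∈ Subgroup.center (P ⧸ γ3) := hHc ⟨_, hv, rfl⟩
    rw [show (x' : P ⧸ γ3) = (x : P ⧸ γ3) * ((x⁻¹ * x' : P) : P ⧸ γ3) by
      rw [← QuotientGroup.mk_mul, mul_inv_cancel_left],
      comm_mul_left (by rw [comm_central_left hvc]; exact one_mem _), comm_central_left hvc, mul_one]
  have hcr : ∀ x y y' : P, y⁻¹ * y' ∈ commutator P →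
      ⁅(x : P ⧸ γ3), (y' : P ⧸ γ3)⁆ = ⁅(x : P ⧸ γ3), (y : P ⧸ γ3)⁆ := by
    intro x y y' hv
    rw [← commutatorElement_inv (y' : P ⧸ γ3), hcl y x y' hv, commutatorElement_inv]
  let b : F → F → Additive H := fun x y =>
    Additive.ofMul (⟨⁅(s x : P ⧸ γ3), (s y : P ⧸ γ3)⁆, hmem _ _⟩ : H)
  have hb : ∀ x y : P, Additive.ofMul (⟨⁅(x : P ⧸ γ3), (y : P ⧸ γ3)⁆, hmem _ _⟩ : H) =
      b (π x) (π y) := by
    intro x y
    refine congrArg Additive.ofMul (Subtype.ext ?_)
    change ⁅(x : P ⧸ γ3), (y : P ⧸ γ3)⁆ = _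
    rw [hcl _ _ _ (hsec x), hcr _ _ _ (hsec y)]
  have hbl : ∀ x x' y, b (x + x') y = b x y + b x' y := by
    intro x x' y
    have h1 := hb (s x * s x') (s y)
    rw [h.add, hs, hs, hs] at h1
    rw [← h1]
    refine congrArg Additive.ofMul (Subtype.ext ?_)
    change ⁅((s x * s x' : P) : P ⧸ γ3), (s y : P ⧸ γ3)⁆ = _
    rw [QuotientGroup.mk_mul, comm_mul_left (hHc (hmem _ _))]
    rfl
  have hbr : ∀ x y y', b x (y + y') = b x y + b x y' := by
    intro x y y'
    have h1 := hb (s x) (s y * s y')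
    rw [h.add, hs, hs, hs] at h1
    rw [← h1]
    refine congrArg Additive.ofMul (Subtype.ext ?_)
    change ⁅(s x : P ⧸ γ3), ((s y * s y' : P) : P ⧸ γ3)⁆ = _
    rw [QuotientGroup.mk_mul, comm_mul_right (hHc (hmem _ _))]
    rfl
  let c : F →+ F →+ Additive H := AddMonoidHom.mk' (fun x => AddMonoidHom.mk' (b x) (hbr x))
    (fun x x' => AddMonoidHom.ext fun y => hbl x x' y)
  have hθ3 : γ3 ≤ γ3.comap θ.toMonoidHom := fun x hx => iterate_mem θ hx 1
  let θ3 : P ⧸ γ3 →* P ⧸ γ3 := QuotientGroup.map γ3 γ3 θ.toMonoidHom hθ3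
  have hθ3mk : ∀ x : P, θ3 x = ((θ x : P) : P ⧸ γ3) := fun x => rfl
  have hθH : ∀ q ∈ H, θ3 q ∈ H := by
    rintro _ ⟨u, hu, rfl⟩
    exact ⟨θ u, iterate_mem θ hu 1, rfl⟩
  let Θ : Additive H →+ Additive H :=
    MonoidHom.toAdditive (MonoidHom.mk' (fun q : H => (⟨θ3 q, hθH q q.2⟩ : H))
      fun q q' => Subtype.ext (map_mul θ3 _ _))
  have hequiv : ∀ x y, c (ω * x) (ω * y) = Θ (c x y) := by
    intro x y
    have h1 := hb (θ (s x)) (θ (s y))
    rw [h.equiv, h.equiv, hs, hs] at h1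
    change b (ω * x) (ω * y) = Θ (b x y)
    rw [← h1]
    refine congrArg Additive.ofMul (Subtype.ext ?_)
    change _ = θ3 ⁅(s x : P ⧸ γ3), (s y : P ⧸ γ3)⁆
    rw [map_commutatorElement, hθ3mk, hθ3mk]
  have hgen : AddSubgroup.closure (Set.range fun z : F × F => c z.1 z.2) = ⊤ := by
    rw [eq_top_iff]
    rintro l -
    obtain ⟨⟨q, u, hu, rfl⟩, rfl⟩ := Additive.ofMul.surjective l
    set S := AddSubgroup.closure (Set.range fun z : F × F => c z.1 z.2) with hS
    suffices hall : ∀ u ∈ commutator P, ∃ v : H,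
        (v : P ⧸ γ3) = (u : P ⧸ γ3) ∧ Additive.ofMul v ∈ S by
      obtain ⟨v, hv, hvS⟩ := hall u hu
      convert hvS using 2
      exact Subtype.ext hv.symm
    intro u hu
    rw [commutator_eq_closure] at hu
    induction hu using Subgroup.closure_induction with
    | mem z hz =>
      obtain ⟨x, y, rfl⟩ := hz
      exact ⟨⟨_, hmem x y⟩, rfl, AddSubgroup.subset_closure ⟨(π x, π y), (hb x y).symm⟩⟩
    | one => exact ⟨1, rfl, zero_mem S⟩
    | mul x y _ _ hx hy =>
      obtain ⟨v, hv, hvS⟩ := hx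
      obtain ⟨w, hw, hwS⟩ := hy
      exact ⟨v * w, by rw [Subgroup.coe_mul, hv, hw]; rfl, add_mem hvS hwS⟩
    | inv x _ hx =>
      obtain ⟨v, hv, hvS⟩ := hx
      exact ⟨v⁻¹, by rw [Subgroup.coe_inv, hv]; rfl, neg_mem hvS⟩
  have hexp : ∀ l : Additive H, p • l = 0 := by
    intro l
    have hl : l ∈ AddSubgroup.closure (Set.range fun z : F × F => c z.1 z.2) :=
      hgen ▸ AddSubgroup.mem_top l
    induction hl using AddSubgroup.closure_induction with
    | mem z hz =>
      obtain ⟨⟨x, y⟩, rfl⟩ := hz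
      dsimp only
      rw [← AddMonoidHom.nsmul_apply, ← map_nsmul, nsmul_eq_mul, CharP.cast_eq_zero, zero_mul,
        map_zero, AddMonoidHom.zero_apply]
    | zero => exact smul_zero _
    | add x y _ _ hx hy => rw [smul_add, hx, hy, add_zero]
    | neg x _ hx => rw [smul_neg, hx, neg_zero]
  obtain ⟨m, hm, hfix⟩ := Weights.exists_exponent.{u, u} ha h.gen
  have hfixH := hfix (Additive H) (h.card_lt le_rfl h32 le_rfl) hexp Θ c hequiv hgen
  have hfixP : ∀ l ∈ commutator P, l⁻¹ * θ^[m] l ∈ γ3 := by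
    intro l hl
    have hit : ∀ (k : ℕ) (q : H), ((Additive.toMul (Θ^[k] (Additive.ofMul q)) : H) : P ⧸ γ3)
        = θ3^[k] q := by
      intro k q
      induction k with
      | zero => rfl
      | succ k ih => rw [Function.iterate_succ_apply', Function.iterate_succ_apply', ← ih]; rfl
    have hit' : ∀ k : ℕ, θ3^[k] (l : P ⧸ γ3) = ((θ^[k] l : P) : P ⧸ γ3) := by
      intro k
      induction k with
      | zero => rfl
      | succ k ih => rw [Function.iterate_succ_apply', Function.iterate_succ_apply', ih]; rfl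
    have h1 := hit m ⟨(l : P ⧸ γ3), l, hl, rfl⟩
    rw [hfixH] at h1
    exact (QuotientGroup.eq (s := γ3)).1 (h1.trans (hit' m))
  -- the second layer vanishes
  set H4 : Subgroup (P ⧸ γ4) := γ3.map (QuotientGroup.mk' γ4) with hH4
  have hH4c : H4 ≤ Subgroup.center (P ⧸ γ4) := by
    rintro _ ⟨u, hu, rfl⟩
    rw [Subgroup.mem_center_iff]
    intro q
    obtain ⟨t, rfl⟩ := QuotientGroup.mk'_surjective γ4 q
    refine (commutatorElement_eq_one_iff_commute.1 ?_).eq.symm
    exact (QuotientGroup.eq_one_iff _).2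
      (Subgroup.commutator_mem_commutator hu (Subgroup.mem_top t))
  haveI : IsMulCommutative H4 := ⟨⟨fun a b =>
    Subtype.ext (Subgroup.mem_center_iff.1 (hH4c b.2) a)⟩⟩
  have h22 : ⁅commutator P, commutator P⁆ ≤ γ4 := by
    set mk := QuotientGroup.mk' γ4 with hmk
    have h1 : (⊤ : Subgroup P).map mk = ⊤ :=
      Subgroup.map_top_of_surjective _ (QuotientGroup.mk'_surjective γ4)
    have h0 : ⁅γ3.map mk, (⊤ : Subgroup (P ⧸ γ4))⁆ = ⊥ := by
      rw [← h1, ← Subgroup.map_commutator, ← hγ4, hmk,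
        (Subgroup.map_eq_bot_iff _).2 (QuotientGroup.ker_mk' γ4).ge]
    set A := (commutator P).map mk with hA
    have h2 : A = ⁅(⊤ : Subgroup (P ⧸ γ4)), ⊤⁆ := by
      rw [hA, ← h1, ← Subgroup.map_commutator]
      exact congrArg (Subgroup.map mk) (commutator_def P)
    have e2 : ⁅⁅(⊤ : Subgroup (P ⧸ γ4)), A⁆, (⊤ : Subgroup (P ⧸ γ4))⁆ = ⊥ := by
      rw [Subgroup.commutator_comm (⊤ : Subgroup (P ⧸ γ4)) A,
        show ⁅A, (⊤ : Subgroup (P ⧸ γ4))⁆ = γ3.map mk by rw [hA, ← h1, ← Subgroup.map_commutator]]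
      exact h0
    have e1 : ⁅⁅A, (⊤ : Subgroup (P ⧸ γ4))⁆, (⊤ : Subgroup (P ⧸ γ4))⁆ = ⊥ := by
      rw [Subgroup.commutator_comm A]; exact e2
    have e := Subgroup.commutator_commutator_eq_bot_of_rotate (H₁ := (⊤ : Subgroup (P ⧸ γ4)))
      (H₂ := ⊤) (H₃ := A) e2 e1
    rw [← h2, hA, ← Subgroup.map_commutator, Subgroup.map_eq_bot_iff, QuotientGroup.ker_mk'] at e
    exact e
  have hmem4 : ∀ l ∈ commutator P, ∀ t : P, ⁅(l : P ⧸ γ4), (t : P ⧸ γ4)⁆ ∈ H4 := fun l hl t =>
    ⟨⁅l, t⁆, Subgroup.commutator_mem_commutator hl (Subgroup.mem_top t), rfl⟩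
  have hkill : ∀ l ∈ commutator P, ∀ v ∈ commutator P,
      ⁅(l : P ⧸ γ4), (v : P ⧸ γ4)⁆ = 1 := fun l hl v hv =>
    (QuotientGroup.eq_one_iff _).2 (h22 (Subgroup.commutator_mem_commutator hl hv))
  have hwd : ∀ l ∈ commutator P, ∀ t : P,
      ⁅(l : P ⧸ γ4), (t : P ⧸ γ4)⁆ = ⁅(l : P ⧸ γ4), (s (π t) : P ⧸ γ4)⁆ := by
    intro l hl t
    conv_lhs => rw [show t = s (π t) * ((s (π t))⁻¹ * t) by group, QuotientGroup.mk_mul]
    rw [comm_mul_right (by rw [hkill l hl _ (hsec t)]; exact one_mem _), hkill l hl _ (hsec t),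
      mul_one]
  have hθ4 : γ4 ≤ γ4.comap θ.toMonoidHom := fun x hx => iterate_mem θ hx 1
  let θ4 : P ⧸ γ4 →* P ⧸ γ4 := QuotientGroup.map γ4 γ4 θ.toMonoidHom hθ4
  have hθ4it : ∀ (k : ℕ) (x : P), θ4^[k] (x : P ⧸ γ4) = ((θ^[k] x : P) : P ⧸ γ4) := by
    intro k x
    induction k with
    | zero => rfl
    | succ k ih => rw [Function.iterate_succ_apply', Function.iterate_succ_apply', ih]; rfl
  have hzero : ∀ l ∈ commutator P, ∀ t : P, ⁅(l : P ⧸ γ4), (t : P ⧸ γ4)⁆ = 1 := by
    intro l hl t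
    have hadd : ∀ x y, ⁅(l : P ⧸ γ4), (s (x + y) : P ⧸ γ4)⁆ =
        ⁅(l : P ⧸ γ4), (s x : P ⧸ γ4)⁆ * ⁅(l : P ⧸ γ4), (s y : P ⧸ γ4)⁆ := by
      intro x y
      have h1 := hwd l hl (s x * s y)
      rw [h.add, hs, hs] at h1
      rw [← h1, QuotientGroup.mk_mul, comm_mul_right (hH4c (hmem4 l hl _))]
    let f : F →+ Additive H4 := AddMonoidHom.mk'
      (fun x => Additive.ofMul (⟨_, hmem4 l hl (s x)⟩ : H4))
      (fun x y => congrArg Additive.ofMul (Subtype.ext (hadd x y)))
    have hf : f = 0 := by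
      refine Weights.eq_zero_of_stable (L := Additive H4) hm (h.card_lt h32 (h43.trans h32) le_rfl) f fun x hx => ?_
      have hx' : ⁅(l : P ⧸ γ4), (s x : P ⧸ γ4)⁆ = 1 := congrArg Subtype.val hx
      refine congrArg Additive.ofMul (Subtype.ext ?_)
      change ⁅(l : P ⧸ γ4), (s (ω ^ m * x) : P ⧸ γ4)⁆ = 1
      have h1 := hwd l hl (θ^[m] (s x))
      rw [h.pi_iterate, hs] at h1
      rw [← h1]
      have hdl : ((l⁻¹ * θ^[m] l : P) : P ⧸ γ4) ∈ Subgroup.center (P ⧸ γ4) :=
        hH4c ⟨_, hfixP l hl, rfl⟩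
      have hcomm : ∀ (k : ℕ) (a b : P ⧸ γ4), ⁅θ4^[k] a, θ4^[k] b⁆ = θ4^[k] ⁅a, b⁆ := by
        intro k
        induction k with
        | zero => intro a b; rfl
        | succ k ih =>
          intro a b
          simp only [Function.iterate_succ_apply', ← map_commutatorElement, ih]
      have h2 : ⁅((θ^[m] l : P) : P ⧸ γ4), ((θ^[m] (s x) : P) : P ⧸ γ4)⁆ = 1 := by
        rw [← hθ4it, ← hθ4it, hcomm, hx', iterate_map_one]
      rw [show (θ^[m] l : P) = l * (l⁻¹ * θ^[m] l) by group, QuotientGroup.mk_mul,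
        comm_mul_left (by rw [comm_central_left hdl]; exact one_mem _), comm_central_left hdl,
        mul_one] at h2
      exact h2
    have h3 := congrArg Subtype.val (DFunLike.congr_fun hf (π t))
    rw [hwd l hl t]
    exact h3
  have h34 : γ3 ≤ γ4 := by
    rw [hγ3, Subgroup.commutator_le]
    intro l hl t _
    exact (QuotientGroup.eq_one_iff _).1 (hzero l hl t)
  have hbot : γ3 ≤ ⊥ := Fusion.le_of_le_commutator_sup_normal γ3 ⊥ (by rw [sup_bot_eq]; exact h34)
  exact Subgroup.commutator_top_right_eq_bot_iff_le_center.1 (le_bot_iff.1 hbot)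

/-- Exponent bounds. -/
theorem SingerData.pow_eq_one (h : SingerData p θ π ω) (x : P) :
    x ^ (p * p) = 1 ∧ (p ≠ 2 → x ^ p = 1) := by
  obtain ⟨a, ha⟩ : ∃ a, Nat.card F = p ^ a := by
    haveI := Fintype.ofFinite F
    obtain ⟨n, -, hn⟩ := FiniteField.card F p
    exact ⟨n, by rw [Nat.card_eq_fintype_card]; exact hn⟩
  have hc := h.commutator_le_center
  have hcen : ∀ {u : P}, u ∈ commutator P → ∀ t : P, Commute u t := fun hu t =>
    (Subgroup.mem_center_iff.1 (hc hu) t).symm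
  have hcp : ∀ u ∈ commutator P, u ^ p = 1 := by
    intro u hu
    rw [commutator_eq_closure] at hu
    induction hu using Subgroup.closure_induction with
    | mem z hz =>
      obtain ⟨a, b, rfl⟩ := hz
      have hcab : ⁅a, b⁆ ∈ commutator P :=
        Subgroup.commutator_mem_commutator (Subgroup.mem_top a) (Subgroup.mem_top b)
      have hpow : ∀ n : ℕ, ⁅a ^ n, b⁆ = ⁅a, b⁆ ^ n := by
        intro n
        induction n with
        | zero => simp
        | succ n ih => rw [pow_succ, comm_mul_left (hc hcab), ih, pow_succ]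
      rw [← hpow, comm_central_left (hc (h.pow_p_mem a))]
    | one => exact one_pow p
    | mul u v hu' _ hu hv =>
      have hu'' : u ∈ commutator P := by rw [commutator_eq_closure]; exact hu'
      rw [(hcen hu'' v).mul_pow, hu, hv, one_mul]
    | inv u _ hu => rw [inv_pow, hu, inv_one]
  refine ⟨by rw [pow_mul]; exact hcp _ (h.pow_p_mem x), fun hp2 => ?_⟩
  -- the `p`-th power map is additive
  have hmul : ∀ u v : P, (u * v) ^ p = u ^ p * v ^ p := by
    intro u v
    have hvu : ⁅v, u⁆ ∈ commutator P :=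
      Subgroup.commutator_mem_commutator (Subgroup.mem_top v) (Subgroup.mem_top u)
    have hk : ∀ k : ℕ, v ^ k * u = u * v ^ k * ⁅v, u⁆ ^ k := by
      intro k
      induction k with
      | zero => simp
      | succ k ih =>
        calc v ^ (k + 1) * u = v * (v ^ k * u) := by rw [pow_succ', mul_assoc]
          _ = v * u * (v ^ k * ⁅v, u⁆ ^ k) := by rw [ih]; group
          _ = ⁅v, u⁆ * (u * v * (v ^ k * ⁅v, u⁆ ^ k)) := by simp only [commutatorElement_def]; group
          _ = u * v * (v ^ k * ⁅v, u⁆ ^ k) * ⁅v, u⁆ := (hcen hvu _).eq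
          _ = u * v ^ (k + 1) * ⁅v, u⁆ ^ (k + 1) := by rw [pow_succ', pow_succ]; group
    have hn : ∀ n : ℕ, (u * v) ^ n = u ^ n * v ^ n * ⁅v, u⁆ ^ (n.choose 2) := by
      intro n
      induction n with
      | zero => simp
      | succ n ih =>
        have h1 : (n + 1).choose 2 = n + n.choose 2 := by
          rw [Nat.choose_succ_succ', Nat.choose_one_right]
        have hcc : Commute (⁅v, u⁆ ^ n.choose 2) (u * v) := (hcen hvu _).pow_left _
        calc (u * v) ^ (n + 1) = u ^ n * (v ^ n * u) * v * ⁅v, u⁆ ^ n.choose 2 := by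
              rw [pow_succ, ih, mul_assoc, hcc.eq]; group
          _ = u ^ n * u * v ^ n * (⁅v, u⁆ ^ n * v) * ⁅v, u⁆ ^ n.choose 2 := by rw [hk]; group
          _ = u ^ n * u * v ^ n * (v * ⁅v, u⁆ ^ n) * ⁅v, u⁆ ^ n.choose 2 := by
              rw [((hcen hvu v).pow_left n).eq]
          _ = u ^ (n + 1) * v ^ (n + 1) * ⁅v, u⁆ ^ (n + 1).choose 2 := by
              rw [h1, pow_add ⁅v, u⁆, pow_succ u, pow_succ v]; group
    obtain ⟨j, hj⟩ : p ∣ p.choose 2 := hp.out.dvd_choose_self (by norm_num)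
      (lt_of_le_of_ne hp.out.two_le (Ne.symm hp2))
    rw [hn, hj, pow_mul, hcp _ hvu, one_pow, mul_one]
  choose s hs using h.surj
  have hwd : ∀ t : P, t ^ p = s (π t) ^ p := by
    intro t
    conv_lhs => rw [show t = s (π t) * ((s (π t))⁻¹ * t) by group]
    rw [hmul, hcp _ (h.eq_iff.1 (hs _)), mul_one]
  haveI : IsMulCommutative (commutator P) :=
    ⟨⟨fun a b => Subtype.ext (hcen a.2 b).eq⟩⟩
  let f : F →+ Additive (commutator P) := AddMonoidHom.mk'
    (fun z => Additive.ofMul (⟨s z ^ p, h.pow_p_mem _⟩ : commutator P))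
    (fun z z' => congrArg Additive.ofMul (Subtype.ext (by
      have h1 := hwd (s z * s z')
      rw [h.add, hs, hs, hmul] at h1
      exact h1.symm)))
  have hw : ∀ R : Subring F, ω ∈ R → R = ⊤ := by
    intro R hR
    rw [eq_top_iff]
    intro z _
    rcases eq_or_ne z 0 with rfl | hz
    · exact zero_mem R
    · obtain ⟨k, rfl⟩ := Weights.exists_pow_eq h.gen hz
      exact pow_mem hR k
  have hcard : Nat.card (Additive (commutator P)) < Nat.card F := by
    have h1 := h.card_lt (M := commutator P) (N := ⊥) le_rfl bot_le (by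
      rw [le_bot_iff]; exact Subgroup.commutator_top_right_eq_bot_iff_le_center.2 hc)
    rw [Subgroup.card_map_of_injective
      ((QuotientGroup.mk' (⊥ : Subgroup P)).ker_eq_bot_iff.1 (QuotientGroup.ker_mk' ⊥))] at h1
    exact h1
  have hf : f = 0 := Weights.eq_zero_of_stable hw hcard f fun z hz => by
    refine congrArg Additive.ofMul (Subtype.ext ?_)
    have hz' : s z ^ p = 1 := congrArg Subtype.val hz
    change s (ω * z) ^ p = 1
    have h1 := hwd (θ (s z))
    rw [h.equiv, hs, ← map_pow, hz', map_one] at h1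
    exact h1.symm
  rw [hwd x]
  exact congrArg Subtype.val (DFunLike.congr_fun hf (π x))

end Cfsg.Agent.OneNonzero
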