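import Cfsg.Agent.Lib.Transfer.Fusion
import Mathlib.GroupTheory.Abelianization.Defs

/-!
A finite `2`-group `P` with a normal subgroup `K ≤ P'` of index two in `P'`, `Z(P/K) = P'/K`, in
which the element `g ∈ P' \ K` is conjugate to all of `g K`, has `g ^ 4 = 1`.
-/

set_option autoImplicit false
set_option linter.style.haveILetI false

open scoped commutatorElement

namespace Cfsg.Agent.OneNonzero

open Cfsg.Agent

variable {P : Type*} [Group P] [Finite P]

/-- The hypotheses on `(P, K, g)`. -/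
structure TwoData (P : Type*) [Group P] (K : Subgroup P) (g : P) : Prop where
  pgroup : IsPGroup 2 P
  le : K ≤ commutator P
  mem : g ∈ commutator P
  notMem : g ∉ K
  two : ∀ x ∈ commutator P, x ∈ K ∨ g⁻¹ * x ∈ K
  cls : ∀ u ∈ K, ∃ t : P, t * g * t⁻¹ = g * u
  nondeg : ∀ x ∉ commutator P, ∃ y : P, ⁅x, y⁆ ∉ K

variable {K : Subgroup P} [K.Normal] {g : P}

omit [Finite P] in
theorem TwoData.conj_mem (h : TwoData P K g) (t : P) : g⁻¹ * (t * g * t⁻¹) ∈ K := by
  refine (h.two _ (Subgroup.Normal.conj_mem inferInstance g h.mem t)).resolve_left fun hK => ?_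
  have := Subgroup.Normal.conj_mem ‹K.Normal› _ hK t⁻¹
  exact h.notMem (by simpa [mul_assoc] using this)

omit [Finite P] [K.Normal] in
theorem TwoData.sq_mem (h : TwoData P K g) : g ^ 2 ∈ K := by
  refine (h.two _ (pow_mem h.mem 2)).resolve_right fun hK => h.notMem ?_
  rwa [sq, inv_mul_cancel_left] at hK

omit [Finite P] in
/-- `P'` is central modulo `K`. -/
theorem TwoData.commute_mk (h : TwoData P K g) {c : P} (hc : c ∈ commutator P) (t : P) :
    Commute (c : P ⧸ K) (t : P ⧸ K) := by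
  have hg : Commute (g : P ⧸ K) (t : P ⧸ K) := by
    have := (QuotientGroup.eq_one_iff (N := K) _).2 (h.conj_mem t)
    simp only [QuotientGroup.mk_mul, QuotientGroup.mk_inv, inv_mul_eq_one,
      eq_mul_inv_iff_mul_eq] at this
    exact this
  rcases h.two c hc with h1 | h1
  · rw [(QuotientGroup.eq_one_iff c).2 h1]; exact Commute.one_left _
  · rw [show (c : P ⧸ K) = g from ((QuotientGroup.eq (s := K)).2 h1).symm]; exact hg

omit [Finite P] in
theorem TwoData.comm_eq (h : TwoData P K g) {x y : P} (hxy : ⁅x, y⁆ ∉ K) :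
    (⁅x, y⁆ : P) * g⁻¹ ∈ K ∧ g⁻¹ * ⁅x, y⁆ ∈ K := by
  have h1 := (h.two _ (Subgroup.commutator_mem_commutator (Subgroup.mem_top x)
    (Subgroup.mem_top y))).resolve_left hxy
  refine ⟨?_, h1⟩
  have := Subgroup.Normal.conj_mem ‹K.Normal› _ h1 g
  simpa [mul_assoc] using this

omit [Finite P] in
theorem comm_mem_iff {x y : P} : ⁅x, y⁆ ∈ K ↔ Commute (x : P ⧸ K) (y : P ⧸ K) := by
  rw [← QuotientGroup.eq_one_iff (N := K), ← commutatorElement_eq_one_iff_commute]
  rfl

omit [Finite P] [K.Normal] in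
/-- A central image of `g` collapses `K`. -/
theorem TwoData.le_of_central (h : TwoData P K g) {N : Subgroup P} [N.Normal]
    (hc : ∀ t : P, Commute (g : P ⧸ N) (t : P ⧸ N)) : K ≤ N := by
  intro u hu
  obtain ⟨t, ht⟩ := h.cls u hu
  have := congrArg (fun w : P => (w : P ⧸ N)) ht
  simp only [QuotientGroup.mk_mul, QuotientGroup.mk_inv, ← (hc t).eq, mul_inv_cancel_right,
    left_eq_mul] at this
  exact (QuotientGroup.eq_one_iff u).1 this

omit [Finite P] in
theorem mk_central {N : Subgroup P} [N.Normal] {L : Subgroup P} (hL : ⁅L, (⊤ : Subgroup P)⁆ ≤ N)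
    {u : P} (hu : u ∈ L) (t : P) : Commute (u : P ⧸ N) (t : P ⧸ N) := by
  rw [← comm_mem_iff]
  exact hL (Subgroup.commutator_mem_commutator hu (Subgroup.mem_top t))

/-- If `[P : P'] > 4` then `K` is trivial. -/
theorem TwoData.eq_bot (h : TwoData P K g) (hidx : 4 < (commutator P).index) : K = ⊥ := by
  haveI : Fact (Nat.Prime 2) := ⟨Nat.prime_two⟩
  haveI := h.pgroup.isNilpotent
  have hpair : ∀ z : P, ∃ x y : P, ⁅x, z⁆ ∈ K ∧ ⁅y, z⁆ ∈ K ∧ ⁅x, y⁆ ∉ K := by
    intro z
    by_contra hcon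
    push Not at hcon
    have hH : ∀ x y : P, ⁅x, z⁆ ∈ K → ⁅y, z⁆ ∈ K → ⁅x, y⁆ ∈ K := hcon
    -- `P` is covered by four cosets of `P'`
    suffices hcov : ∃ a b : P, ∀ x : P, x ∈ commutator P ∨ a⁻¹ * x ∈ commutator P ∨
        b⁻¹ * x ∈ commutator P ∨ (a * b)⁻¹ * x ∈ commutator P by
      obtain ⟨a, b, hab⟩ := hcov
      have hsurj : Function.Surjective (fun e : Fin 2 × Fin 2 =>
          ((a ^ (e.1 : ℕ) * b ^ (e.2 : ℕ) : P) : P ⧸ commutator P)) := by
        intro q
        obtain ⟨x, rfl⟩ := QuotientGroup.mk_surjective q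
        rcases hab x with hx | hx | hx | hx
        · exact ⟨(0, 0), by simpa using ((QuotientGroup.eq_one_iff x).2 hx).symm⟩
        · exact ⟨(1, 0), by simpa using (QuotientGroup.eq (s := commutator P)).2 hx⟩
        · exact ⟨(0, 1), by simpa using (QuotientGroup.eq (s := commutator P)).2 hx⟩
        · exact ⟨(1, 1), by simpa using (QuotientGroup.eq (s := commutator P)).2 hx⟩
      have := Nat.card_le_card_of_surjective _ hsurj
      rw [Subgroup.index] at hidx
      rw [Nat.card_eq_fintype_card (α := Fin 2 × Fin 2), Fintype.card_prod, Fintype.card_fin] at this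
      omega
    by_cases hall : ∀ x : P, ⁅x, z⁆ ∈ K
    · exfalso
      refine h.notMem (?_ : g ∈ K)
      have : commutator P ≤ K := by
        rw [commutator_def, Subgroup.commutator_le]
        exact fun x _ y _ => hH x y (hall x) (hall y)
      exact this h.mem
    push Not at hall
    obtain ⟨t, ht⟩ := hall
    -- elements outside `H` differ from `t` by an element of `H`
    have hcoset : ∀ x : P, ⁅x, z⁆ ∉ K → ⁅t⁻¹ * x, z⁆ ∈ K := by
      intro x hx
      rw [comm_mem_iff, QuotientGroup.mk_mul, QuotientGroup.mk_inv]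
      have e1 : ∀ w : P, ⁅w, z⁆ ∉ K → (w : P ⧸ K) * z = g * z * w := by
        intro w hw
        have := (QuotientGroup.eq_one_iff (N := K) _).2 (h.comm_eq hw).1
        simp only [QuotientGroup.mk_mul, QuotientGroup.mk_inv, commutatorElement_def,
          mul_inv_eq_iff_eq_mul, one_mul] at this
        exact this
      have h1 := e1 x hx
      have h2 := e1 t ht
      rw [Commute, SemiconjBy, mul_assoc, h1,
        show (g : P ⧸ K) * z = t * z * (t : P ⧸ K)⁻¹ from eq_mul_inv_iff_mul_eq.2 h2.symm]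
      group
    by_cases hsub : ∀ x : P, ⁅x, z⁆ ∈ K → x ∈ commutator P
    · refine ⟨t, t, fun x => ?_⟩
      by_cases hx : ⁅x, z⁆ ∈ K
      · exact Or.inl (hsub x hx)
      · exact Or.inr (Or.inl (hsub _ (hcoset x hx)))
    push Not at hsub
    obtain ⟨a, haz, ha⟩ := hsub
    refine ⟨t, a, fun x => ?_⟩
    have hat : ∀ x : P, ⁅x, z⁆ ∈ K → x ∈ commutator P ∨ a⁻¹ * x ∈ commutator P := by
      intro x hx
      by_contra hcon
      push Not at hcon
      -- `x, a` and `a⁻¹ x` are outside `P'`, so all fail to commute with `t` modulo `K`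
      have hnc : ∀ w : P, ⁅w, z⁆ ∈ K → w ∉ commutator P → ¬ Commute (w : P ⧸ K) (t : P ⧸ K) := by
        intro w hw hwP hcm
        obtain ⟨y, hy⟩ := h.nondeg w hwP
        refine hy ?_
        by_cases hyz : ⁅y, z⁆ ∈ K
        · exact hH w y hw hyz
        · have h1 := hH w _ hw (hcoset y hyz)
          rw [comm_mem_iff, QuotientGroup.mk_mul, QuotientGroup.mk_inv] at h1
          rw [comm_mem_iff]
          have := hcm.mul_right h1
          rwa [mul_inv_cancel_left] at this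
      have e1 : ∀ w : P, ¬ Commute (w : P ⧸ K) (t : P ⧸ K) → (w : P ⧸ K) * t = g * t * w := by
        intro w hw
        have hw' : ⁅w, t⁆ ∉ K := fun hh => hw (comm_mem_iff.1 hh)
        have := (QuotientGroup.eq_one_iff (N := K) _).2 (h.comm_eq hw').1
        simp only [QuotientGroup.mk_mul, QuotientGroup.mk_inv, commutatorElement_def,
          mul_inv_eq_iff_eq_mul, one_mul] at this
        exact this
      have h1 := e1 x (hnc x hx hcon.1)
      have h2 := e1 a (hnc a haz ha)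
      refine hnc (a⁻¹ * x) ?_ hcon.2 ?_
      · rw [comm_mem_iff] at haz hx ⊢
        rw [QuotientGroup.mk_mul, QuotientGroup.mk_inv]
        exact haz.inv_left.mul_left hx
      · rw [QuotientGroup.mk_mul, QuotientGroup.mk_inv, Commute, SemiconjBy, mul_assoc, h1,
          show (g : P ⧸ K) * t = a * t * (a : P ⧸ K)⁻¹ from eq_mul_inv_iff_mul_eq.2 h2.symm]
        group
    by_cases hx : ⁅x, z⁆ ∈ K
    · rcases hat x hx with h1 | h1
      · exact Or.inl h1
      · exact Or.inr (Or.inr (Or.inl h1))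
    · rcases hat _ (hcoset x hx) with h1 | h1
      · exact Or.inr (Or.inl h1)
      · refine Or.inr (Or.inr (Or.inr ?_))
        rwa [mul_inv_rev, mul_assoc]
  -- reduce modulo `[K, P]`
  refine le_bot_iff.1 (Fusion.le_of_le_commutator_sup_normal K ⊥ ?_)
  rw [sup_bot_eq]
  refine h.le_of_central fun z => ?_
  set N : Subgroup P := ⁅K, (⊤ : Subgroup P)⁆
  obtain ⟨x, y, hxz, hyz, hxy⟩ := hpair z
  have hKc : ∀ u ∈ K, ∀ t : P, Commute (u : P ⧸ N) (t : P ⧸ N) := fun u hu t =>
    mk_central le_rfl hu t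
  have hu := (h.comm_eq hxy).1
  set u := ⁅x, y⁆ * g⁻¹ with hudef
  have hg : (g : P ⧸ N) = (u : P ⧸ N)⁻¹ * ⁅(x : P ⧸ N), (y : P ⧸ N)⁆ := by
    rw [show g = u⁻¹ * ⁅x, y⁆ by rw [hudef]; group]
    rfl
  rw [hg]
  refine (hKc u hu z).inv_left.mul_left ?_
  -- conjugation by `z` changes `x, y` by central factors
  have hx1 := hKc _ hxz
  have hy1 := hKc _ hyz
  have key : ∀ w : P, (z : P ⧸ N) * w * (z : P ⧸ N)⁻¹ = ((⁅w, z⁆⁻¹ : P) : P ⧸ N) * w := by
    intro w
    rw [show (⁅w, z⁆⁻¹ : P) = z * w * z⁻¹ * w⁻¹ by rw [commutatorElement_def]; group]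
    simp only [QuotientGroup.mk_mul, QuotientGroup.mk_inv, inv_mul_cancel_right]
  have central : ∀ a : P ⧸ N, (∀ t : P ⧸ N, Commute a t) → ∀ v w : P ⧸ N,
      ⁅a * v, w⁆ = ⁅v, w⁆ ∧ ⁅v, a * w⁆ = ⁅v, w⁆ := by
    intro a ha v w
    constructor
    · calc ⁅a * v, w⁆ = a * (v * w * v⁻¹) * a⁻¹ * w⁻¹ := by rw [commutatorElement_def]; group
        _ = v * w * v⁻¹ * w⁻¹ := by rw [(ha _).eq, mul_inv_cancel_right]
        _ = ⁅v, w⁆ := (commutatorElement_def _ _).symm
    · calc ⁅v, a * w⁆ = v * a * (w * v⁻¹ * w⁻¹) * a⁻¹ := by rw [commutatorElement_def]; group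
        _ = v * (w * v⁻¹ * w⁻¹) := by rw [mul_assoc v a, (ha _).eq, ← mul_assoc, mul_inv_cancel_right]
        _ = ⁅v, w⁆ := by rw [commutatorElement_def]; group
  have hxa : ∀ t : P ⧸ N, Commute (((⁅x, z⁆⁻¹ : P) : P ⧸ N)) t := by
    intro t
    obtain ⟨t, rfl⟩ := QuotientGroup.mk_surjective t
    exact hKc _ (inv_mem hxz) t
  have hya : ∀ t : P ⧸ N, Commute (((⁅y, z⁆⁻¹ : P) : P ⧸ N)) t := by
    intro t
    obtain ⟨t, rfl⟩ := QuotientGroup.mk_surjective t
    exact hKc _ (inv_mem hyz) t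
  have hz : (z : P ⧸ N) * ⁅(x : P ⧸ N), (y : P ⧸ N)⁆ * (z : P ⧸ N)⁻¹
      = ⁅(x : P ⧸ N), (y : P ⧸ N)⁆ := by
    calc (z : P ⧸ N) * ⁅(x : P ⧸ N), (y : P ⧸ N)⁆ * (z : P ⧸ N)⁻¹
        = ⁅(z : P ⧸ N) * x * (z : P ⧸ N)⁻¹, (z : P ⧸ N) * y * (z : P ⧸ N)⁻¹⁆ := by
          simp only [commutatorElement_def]; group
      _ = _ := by rw [key x, key y, (central _ hxa _ _).1, (central _ hya _ _).2]
  exact (mul_inv_eq_iff_eq_mul.1 hz).symm

omit [Finite P] in
/-- A commutator outside `K` commutes with its first entry modulo a normal subgroup centralising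
`K` and containing `g ^ 2`. -/
theorem TwoData.commute_comm (h : TwoData P K g) {N : Subgroup P} [N.Normal]
    (hN : ⁅K, (⊤ : Subgroup P)⁆ ≤ N) (hg2 : g ^ 2 ∈ N) {x y : P} (hxy : ⁅x, y⁆ ∉ K) :
    Commute (g : P ⧸ N) (x : P ⧸ N) := by
  set c : P ⧸ N := ((⁅x, y⁆ : P) : P ⧸ N) with hc
  set u := g⁻¹ * ⁅x, y⁆ with hu
  have huK : u ∈ K := (h.comm_eq hxy).2
  have hgu : c = (g : P ⧸ N) * (u : P ⧸ N) := by
    rw [hc, ← QuotientGroup.mk_mul, hu, mul_inv_cancel_left]
  have hgg : (g : P ⧸ N) * g = 1 := by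
    rw [← QuotientGroup.mk_mul, ← sq]; exact (QuotientGroup.eq_one_iff _).2 hg2
  suffices hcx : Commute c (x : P ⧸ N) by
    have := hcx.mul_left ((mk_central hN huK x).inv_left)
    rwa [hgu, mul_inv_cancel_right] at this
  -- the squares of elements of `g K` are trivial
  have hcc : c * c = 1 := by
    obtain ⟨t, ht⟩ := h.cls u huK
    rw [hgu, ← QuotientGroup.mk_mul, ← ht, QuotientGroup.mk_mul, QuotientGroup.mk_mul,
      QuotientGroup.mk_inv]
    calc (t : P ⧸ N) * g * (t : P ⧸ N)⁻¹ * ((t : P ⧸ N) * g * (t : P ⧸ N)⁻¹)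
        = (t : P ⧸ N) * ((g : P ⧸ N) * g) * (t : P ⧸ N)⁻¹ := by group
      _ = 1 := by rw [hgg, mul_one, mul_inv_cancel]
  have hx2 : x * x ∈ commutator P := by
    by_contra hx
    obtain ⟨w, hw⟩ := h.nondeg _ hx
    refine hw ?_
    rw [comm_mem_iff, QuotientGroup.mk_mul]
    by_cases hxw : ⁅x, w⁆ ∈ K
    · exact (comm_mem_iff.1 hxw).mul_left (comm_mem_iff.1 hxw)
    · have h1 := (QuotientGroup.eq_one_iff (N := K) _).2 (h.comm_eq hxw).1
      simp only [QuotientGroup.mk_mul, QuotientGroup.mk_inv, commutatorElement_def,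
        mul_inv_eq_iff_eq_mul, one_mul] at h1
      have hgK : (g : P ⧸ K) * g = 1 := by
        rw [← QuotientGroup.mk_mul, ← sq]; exact (QuotientGroup.eq_one_iff _).2 h.sq_mem
      have hgx := (h.commute_mk h.mem x).eq
      calc (x : P ⧸ K) * x * w = x * ((g : P ⧸ K) * w * x) := by rw [mul_assoc, h1]
        _ = (g : P ⧸ K) * (x * w) * x := by rw [← mul_assoc, ← mul_assoc, ← hgx, mul_assoc _ (x : P ⧸ K)]
        _ = w * (x * x) := by rw [h1, ← mul_assoc, ← mul_assoc, hgK, one_mul, mul_assoc]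
  rcases h.two _ hx2 with h1 | h1
  · -- `x * x` is central, so `c` and its conjugate are inverse to each other
    have hsq : Commute ((x : P ⧸ N) * x) (y : P ⧸ N) := by
      rw [← QuotientGroup.mk_mul]; exact mk_central hN h1 y
    have hxc : (x : P ⧸ N) * c * (x : P ⧸ N)⁻¹ * c = 1 := by
      calc (x : P ⧸ N) * c * (x : P ⧸ N)⁻¹ * c
          = ((x : P ⧸ N) * x) * y * ((x : P ⧸ N) * x)⁻¹ * (y : P ⧸ N)⁻¹ := by
            rw [hc, commutatorElement_def]
            simp only [QuotientGroup.mk_mul, QuotientGroup.mk_inv]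
            group
        _ = 1 := by rw [hsq.eq, mul_inv_cancel_right, mul_inv_cancel]
    have h2 : (x : P ⧸ N) * c * (x : P ⧸ N)⁻¹ = c :=
      (eq_inv_of_mul_eq_one_left hxc).trans (eq_inv_of_mul_eq_one_left hcc).symm
    exact (mul_inv_eq_iff_eq_mul.1 h2).symm
  · set v := g⁻¹ * (x * x) with hv
    have hxx : (g : P ⧸ N) = (x : P ⧸ N) * x * (v : P ⧸ N)⁻¹ := by
      rw [← QuotientGroup.mk_mul, ← QuotientGroup.mk_inv, ← QuotientGroup.mk_mul, hv]
      congr 1; group
    have hgx : Commute (g : P ⧸ N) (x : P ⧸ N) := by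
      rw [hxx]
      exact ((Commute.refl _).mul_left (Commute.refl _)).mul_left (mk_central hN h1 x).inv_left
    rw [hgu]
    exact hgx.mul_left (mk_central hN huK x)

/-- If `[P : P'] ≤ 4`, normal subgroups of `P` inside `K` containing `g ^ 2` are equal to `K`. -/
theorem TwoData.le_of_sq_mem (h : TwoData P K g) (hidx : (commutator P).index ≤ 4)
    (U : Subgroup P) [U.Normal] (_hUK : U ≤ K) (hg2 : g ^ 2 ∈ U) : K ≤ U := by
  haveI : Fact (Nat.Prime 2) := ⟨Nat.prime_two⟩
  haveI := h.pgroup.isNilpotent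
  refine Fusion.le_of_le_commutator_sup_normal K U ?_
  set N := ⁅K, (⊤ : Subgroup P)⁆ ⊔ U with hN
  have hK : ⁅K, (⊤ : Subgroup P)⁆ ≤ N := le_sup_left
  have hg2' : g ^ 2 ∈ N := Subgroup.mem_sup_right hg2
  refine h.le_of_central fun t => ?_
  by_cases htop : commutator P = ⊤
  · exfalso
    have hbot : commutator P ≤ K := by
      rw [commutator_def, Subgroup.commutator_le]
      intro x _ y _
      rw [comm_mem_iff]
      exact h.commute_mk (htop ▸ Subgroup.mem_top x) y
    exact h.notMem (hbot h.mem)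
  obtain ⟨x, -, hx⟩ := SetLike.exists_of_lt (lt_top_iff_ne_top.2 htop)
  obtain ⟨y, hxy⟩ := h.nondeg x hx
  have hP' : ∀ c ∈ commutator P, Commute (g : P ⧸ N) (c : P ⧸ N) := by
    intro c hc
    rcases h.two c hc with h1 | h1
    · exact (mk_central hK h1 g).symm
    · rw [show c = g * (g⁻¹ * c) by group, QuotientGroup.mk_mul]
      exact (Commute.refl _).mul_right (mk_central hK h1 g).symm
  have hyx : ⁅y, x⁆ ∉ K := fun hh => hxy (by rw [← commutatorElement_inv y x]; exact inv_mem hh)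
  have hgx := h.commute_comm hK hg2' hxy
  have hgy := h.commute_comm hK hg2' hyx
  have hyP : y ∉ commutator P := fun hy => hyx (comm_mem_iff.2 (h.commute_mk hy x))
  have hxyP : x⁻¹ * y ∉ commutator P := fun hy => by
    refine hxy (comm_mem_iff.2 ?_)
    have h1 := (Commute.refl (x : P ⧸ K)).mul_right (h.commute_mk hy x).symm
    rwa [← QuotientGroup.mk_mul, mul_inv_cancel_left] at h1
  -- the four cosets exhaust `P`
  let f : Fin 2 × Fin 2 → P ⧸ commutator P := fun e => ((x ^ (e.1 : ℕ) * y ^ (e.2 : ℕ) : P) : _)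
  have hxy' : x * y ∉ commutator P := fun hh => by
    refine hxy (comm_mem_iff.2 ?_)
    have h1 := (Commute.refl (x : P ⧸ K)).inv_right.mul_right (h.commute_mk hh x).symm
    rwa [← QuotientGroup.mk_inv, ← QuotientGroup.mk_mul, inv_mul_cancel_left] at h1
  have hinj : Function.Injective f := by
    have e1 : (x : P ⧸ commutator P) ≠ 1 := fun hh => hx ((QuotientGroup.eq_one_iff x).1 hh)
    have e2 : (y : P ⧸ commutator P) ≠ 1 := fun hh => hyP ((QuotientGroup.eq_one_iff y).1 hh)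
    have e3 : (x : P ⧸ commutator P) ≠ y := fun hh => hxyP ((QuotientGroup.eq).1 hh)
    have e4 : (x : P ⧸ commutator P) * y ≠ 1 := fun hh => hxy' ((QuotientGroup.eq_one_iff _).1 hh)
    rintro ⟨i, j⟩ ⟨k, l⟩ he
    fin_cases i <;> fin_cases j <;> fin_cases k <;> fin_cases l <;>
      simp [f, e1, e2, e3, e4, e1.symm, e2.symm, e3.symm, e4.symm] at he ⊢
  have hbij : Function.Bijective f := by
    refine (Nat.bijective_iff_injective_and_card f).2 ⟨hinj, le_antisymm
      (Nat.card_le_card_of_injective f hinj) ?_⟩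
    rw [Nat.card_eq_fintype_card (α := Fin 2 × Fin 2)]
    simpa [Subgroup.index] using hidx
  obtain ⟨⟨i, j⟩, hij⟩ := hbij.2 (t : P ⧸ commutator P)
  have hc := (QuotientGroup.eq (s := commutator P)).1 hij
  rw [show t = x ^ (i : ℕ) * y ^ (j : ℕ) * ((x ^ (i : ℕ) * y ^ (j : ℕ))⁻¹ * t) by group,
    QuotientGroup.mk_mul, QuotientGroup.mk_mul, QuotientGroup.mk_pow, QuotientGroup.mk_pow]
  exact ((hgx.pow_right _).mul_right (hgy.pow_right _)).mul_right (hP' _ hc)

/-- If `[P : P'] ≤ 4`, then `K` is generated by `g ^ 2`. -/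
theorem TwoData.le_zpowers (h : TwoData P K g) (hidx : (commutator P).index ≤ 4) :
    K ≤ Subgroup.zpowers (g ^ 2) := by
  haveI : Fact (Nat.Prime 2) := ⟨Nat.prime_two⟩
  haveI := h.pgroup.isNilpotent
  suffices hall : ∀ N : Subgroup P, N.Normal → N ≤ K → K ≤ Subgroup.zpowers (g ^ 2) ⊔ N →
      K ≤ Subgroup.zpowers (g ^ 2) from hall K inferInstance le_rfl le_sup_right
  intro N
  induction N using WellFoundedLT.induction with
  | _ N ih =>
    intro hNn hNK hKN
    by_cases hbot : N = ⊥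
    · rwa [hbot, sup_bot_eq] at hKN
    obtain ⟨N', ⟨hN'n, hN'lt⟩, hmax⟩ : ∃ N' : Subgroup P, (N'.Normal ∧ N' < N) ∧
        ∀ M : Subgroup P, (M.Normal ∧ M < N) → N' ≤ M → M = N' := by
      obtain ⟨N', -, h1, h2⟩ := Finite.exists_le_maximal
        (p := fun M : Subgroup P => M.Normal ∧ M < N)
        ⟨inferInstance, bot_lt_iff_ne_bot.2 hbot⟩
      exact ⟨N', h1, fun M hM hle => le_antisymm (h2 hM hle) hle⟩
    haveI := hN'n
    have hcomm : ⁅N, (⊤ : Subgroup P)⁆ ≤ N' := by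
      have hle : ⁅N, (⊤ : Subgroup P)⁆ ⊔ N' ≤ N := sup_le (Subgroup.commutator_le_left N ⊤) hN'lt.le
      rcases hle.eq_or_lt with heq | hlt
      · exact absurd (Fusion.le_of_le_commutator_sup_normal N N' heq.ge) hN'lt.not_ge
      · exact sup_eq_right.1 (hmax _ ⟨inferInstance, hlt⟩ le_sup_right)
    obtain ⟨v, hvN, hvN'⟩ := SetLike.exists_of_lt hN'lt
    obtain ⟨w, hwN, hwN', hw2⟩ : ∃ w ∈ N, w ∉ N' ∧ w * w ∈ N' := by
      obtain ⟨k, hk⟩ := h.pgroup v
      induction k generalizing v with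
      | zero =>
        rw [pow_zero, pow_one] at hk
        exact absurd (hk ▸ one_mem N') hvN'
      | succ k ihk =>
        by_cases hv2 : v * v ∈ N'
        · exact ⟨v, hvN, hvN', hv2⟩
        · refine ihk (v * v) (mul_mem hvN hvN) hv2 ?_
          rw [← sq, ← pow_mul, ← pow_succ']
          exact hk
    have hnorm : (N' ⊔ Subgroup.zpowers w).Normal := by
      refine ⟨fun z hz t => ?_⟩
      have hzN : z ∈ N := sup_le hN'lt.le (Subgroup.zpowers_le.2 hwN) hz
      have := hcomm (Subgroup.commutator_mem_commutator (inv_mem hzN) (Subgroup.mem_top t))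
      rw [show t * z * t⁻¹ = z * ⁅z⁻¹, t⁆ by rw [commutatorElement_def]; group]
      exact mul_mem hz (Subgroup.mem_sup_left this)
    have hNeq : N' ⊔ Subgroup.zpowers w = N := by
      rcases (sup_le hN'lt.le (Subgroup.zpowers_le.2 hwN)).eq_or_lt with heq | hlt
      · exact heq
      · exact absurd ((hmax _ ⟨hnorm, hlt⟩ le_sup_left) ▸
          Subgroup.mem_sup_right (Subgroup.mem_zpowers w)) hwN'
    have hsq : ∀ z ∈ N, z * z ∈ N' := by
      intro z hz
      rw [← hNeq, sup_comm, Subgroup.mem_sup_of_normal_right] at hz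
      obtain ⟨_, ⟨k, rfl⟩, b, hb, rfl⟩ := hz
      have hw2' : ((w : P ⧸ N')) * w = 1 := by
        rw [← QuotientGroup.mk_mul]; exact (QuotientGroup.eq_one_iff _).2 hw2
      rw [← QuotientGroup.eq_one_iff, QuotientGroup.mk_mul, QuotientGroup.mk_mul,
        (QuotientGroup.eq_one_iff b).2 hb, mul_one, QuotientGroup.mk_zpow,
        ← (Commute.refl (w : P ⧸ N')).mul_zpow, hw2', one_zpow]
    -- `⟨g ^ 2⟩ N'` is normal
    have hUK : Subgroup.zpowers (g ^ 2) ⊔ N' ≤ K :=
      sup_le (Subgroup.zpowers_le.2 h.sq_mem) (hN'lt.le.trans hNK)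
    haveI : (Subgroup.zpowers (g ^ 2) ⊔ N').Normal := by
      refine ⟨fun z hz t => ?_⟩
      have hle : Subgroup.zpowers (g ^ 2) ⊔ N' ≤
          (Subgroup.zpowers (g ^ 2) ⊔ N').comap (MulAut.conj t).toMonoidHom := by
        refine sup_le (Subgroup.zpowers_le.2 ?_) fun b hb =>
          Subgroup.mem_sup_right (hN'n.conj_mem b hb t)
        rw [Subgroup.mem_comap, MulEquiv.coe_toMonoidHom, map_pow, MulAut.conj_apply]
        have hu := hKN (h.conj_mem t)
        rw [Subgroup.mem_sup_of_normal_right] at hu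
        obtain ⟨_, ⟨k, rfl⟩, b, hb, hkb⟩ := hu
        change (g ^ 2) ^ k * b = g⁻¹ * (t * g * t⁻¹) at hkb
        rw [show t * g * t⁻¹ = g * ((g ^ 2) ^ k * b) by rw [hkb, mul_inv_cancel_left], ← mul_assoc]
        have hbc : ∀ s : P, Commute (b : P ⧸ N') (s : P ⧸ N') := mk_central hcomm hb
        have hmk : (((g * (g ^ 2) ^ k * b) ^ 2 : P) : P ⧸ N') =
            ((((g ^ 2) * ((g ^ 2) ^ k) ^ 2 : P)) : P ⧸ N') := by
          have hc1 : Commute (g * (g ^ 2) ^ k : P) g :=
            (Commute.refl g).mul_left (((Commute.refl g).pow_left 2).zpow_left k)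
          rw [QuotientGroup.mk_pow, QuotientGroup.mk_mul,
            ((hbc _).symm).mul_pow, ← QuotientGroup.mk_pow, ← QuotientGroup.mk_pow,
            (QuotientGroup.eq_one_iff (b ^ 2)).2 (by rw [sq]; exact hsq b hb), mul_one,
            (((Commute.refl g).pow_right 2).zpow_right k).mul_pow]
        have hmem := (QuotientGroup.eq (s := N')).1 hmk.symm
        rw [show (g * (g ^ 2) ^ k * b) ^ 2 =
          (g ^ 2 * ((g ^ 2) ^ k) ^ 2) * ((g ^ 2 * ((g ^ 2) ^ k) ^ 2)⁻¹ * (g * (g ^ 2) ^ k * b) ^ 2)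
          by rw [mul_inv_cancel_left]]
        exact mul_mem (Subgroup.mem_sup_left (mul_mem (Subgroup.mem_zpowers _)
          (pow_mem (Subgroup.zpow_mem _ (Subgroup.mem_zpowers _) k) 2)))
          (Subgroup.mem_sup_right hmem)
      exact hle hz
    exact ih N' hN'lt hN'n (hN'lt.le.trans hNK)
      (h.le_of_sq_mem hidx _ hUK (Subgroup.mem_sup_left (Subgroup.mem_zpowers _)))

/-- The main theorem. -/
theorem TwoData.pow_four (h : TwoData P K g) : g ^ 4 = 1 := by
  haveI : Fact (Nat.Prime 2) := ⟨Nat.prime_two⟩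
  by_cases hidx : 4 < (commutator P).index
  · have h2 := h.sq_mem
    rw [h.eq_bot hidx, Subgroup.mem_bot] at h2
    rw [show (4 : ℕ) = 2 * 2 from rfl, pow_mul, h2, one_pow]
  rw [not_lt] at hidx
  have hK := h.le_zpowers hidx
  have hKg : ∀ u ∈ K, ∃ k : ℤ, u = g ^ (2 * k) := by
    intro u hu
    obtain ⟨k, hk⟩ := hK hu
    exact ⟨k, by rw [zpow_mul, zpow_ofNat]; exact hk.symm⟩
  have hP' : ∀ c ∈ commutator P, ∃ k : ℤ, c = g ^ k := by
    intro c hc
    rcases h.two c hc with h1 | h1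
    · obtain ⟨k, hk⟩ := hKg c h1
      exact ⟨2 * k, hk⟩
    · obtain ⟨k, hk⟩ := hKg _ h1
      exact ⟨1 + 2 * k, by rw [zpow_add, zpow_one, ← hk, mul_inv_cancel_left]⟩
  -- the centraliser of `g` has order at most eight
  set C := Subgroup.centralizer ({g} : Set P) with hC
  have hclass : K.carrier.ncard = C.index := by
    have hstab : C = (MulAction.stabilizer (ConjAct P) g).comap
        (ConjAct.toConjAct (G := P)).toMonoidHom := by
      ext w
      simp [hC, ConjAct.smul_def, Subgroup.mem_centralizer_singleton_iff, mul_inv_eq_iff_eq_mul]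
    rw [hstab, Subgroup.index_comap_of_surjective _ (f := (ConjAct.toConjAct (G := P)).toMonoidHom)
      ConjAct.toConjAct.surjective, MulAction.index_stabilizer]
    refine Set.ncard_congr (fun u _ => g * u) ?_ (fun a b _ _ e => mul_left_cancel e) ?_
    · intro u hu
      obtain ⟨t, ht⟩ := h.cls u hu
      exact ⟨ConjAct.toConjAct t, by simpa [ConjAct.smul_def] using ht⟩
    · rintro x ⟨t, rfl⟩
      refine ⟨g⁻¹ * (ConjAct.ofConjAct t * g * (ConjAct.ofConjAct t)⁻¹), h.conj_mem _, ?_⟩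
      rw [mul_inv_cancel_left]
      exact (ConjAct.smul_def _ _).symm
  have hKcard : Nat.card (commutator P) ≤ 2 * Nat.card K := by
    let f : K × Fin 2 → commutator P := fun e =>
      ⟨g ^ (e.2 : ℕ) * e.1, mul_mem (pow_mem h.mem _) (h.le e.1.2)⟩
    have hf : Function.Surjective f := by
      rintro ⟨c, hc⟩
      rcases h.two c hc with h1 | h1
      · exact ⟨(⟨c, h1⟩, 0), Subtype.ext (by simp [f])⟩
      · exact ⟨(⟨_, h1⟩, 1), Subtype.ext (by simp [f])⟩
    have := Nat.card_le_card_of_surjective f hf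
    rwa [Nat.card_prod, Nat.card_fin, mul_comm] at this
  have hC8 : Nat.card C ≤ 8 := by
    have h1 : C.index * Nat.card C = (commutator P).index * Nat.card (commutator P) := by
      rw [Subgroup.index_mul_card, Subgroup.index_mul_card]
    have h2 : C.index = Nat.card K := by
      rw [← hclass, ← Nat.card_coe_set_eq]; rfl
    rw [h2] at h1
    refine Nat.le_of_mul_le_mul_left ?_ (Nat.card_pos (α := K))
    rw [h1]
    calc _ ≤ 4 * (2 * Nat.card K) := Nat.mul_le_mul hidx hKcard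
      _ = Nat.card K * 8 := by ring
  have hzC : Subgroup.zpowers g ≤ C :=
    Subgroup.zpowers_le.2 (Subgroup.mem_centralizer_singleton_iff.2 rfl)
  have hord : orderOf g ≤ 8 := by
    rw [← Nat.card_zpowers]
    exact (Nat.le_of_dvd Nat.card_pos (Subgroup.card_dvd_of_le hzC)).trans hC8
  by_contra h4
  obtain ⟨k, hk⟩ := IsPGroup.iff_orderOf.1 h.pgroup g
  have h8 : orderOf g = 8 := by
    have hk3 : 3 ≤ k := by
      by_contra hlt
      refine h4 (orderOf_dvd_iff_pow_eq_one.1 ?_)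
      rw [hk, show (4 : ℕ) = 2 ^ 2 from rfl]
      exact Nat.pow_dvd_pow 2 (by omega)
    have h2 : 2 ^ 3 ≤ 2 ^ k := Nat.pow_le_pow_right (by norm_num) hk3
    omega
  have hCz : C = Subgroup.zpowers g :=
    (Subgroup.eq_of_le_of_card_ge hzC (by rw [Nat.card_zpowers, h8]; exact hC8)).symm
  have hpow : ∀ a b : ℤ, g ^ a = g ^ b ↔ (8 : ℤ) ∣ b - a := by
    intro a b
    rw [eq_comm, ← mul_inv_eq_one, ← zpow_sub, ← orderOf_dvd_iff_zpow_eq_one, h8]
    rfl
  obtain ⟨y, hy⟩ := h.cls (g ^ 2) h.sq_mem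
  have hy3 : y * g * y⁻¹ = g ^ (3 : ℤ) := by rw [hy]; group
  have hycomm : ∀ k : ℤ, y * g ^ k * y⁻¹ = g ^ (3 * k) := by
    intro k
    rw [← conj_zpow, hy3, ← zpow_mul]
  have hyP : y ∉ commutator P := by
    intro hmem
    obtain ⟨k, rfl⟩ := hP' y hmem
    have : g ^ (3 : ℤ) = g ^ (1 : ℤ) := by
      rw [← hy3, ((Commute.refl g).zpow_left k).eq, mul_inv_cancel_right, zpow_one]
    rw [hpow] at this
    norm_num at this
  obtain ⟨x, hxy⟩ := h.nondeg y hyP
  obtain ⟨m, hm⟩ := hP' _ (Subgroup.commutator_mem_commutator (Subgroup.mem_top y)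
    (Subgroup.mem_top x))
  have hmodd : ¬ (2 : ℤ) ∣ m := by
    rintro ⟨j, rfl⟩
    exact hxy (hm ▸ by rw [zpow_mul, zpow_ofNat]; exact zpow_mem h.sq_mem j)
  have hy2 : y * y ∈ C := by
    rw [hC, Subgroup.mem_centralizer_singleton_iff]
    have h9 : g ^ (3 * (3 * (1 : ℤ))) = g ^ (1 : ℤ) := (hpow _ _).2 (by norm_num)
    have := hycomm 1
    rw [← mul_inv_eq_iff_eq_mul]
    calc y * y * g * (y * y)⁻¹ = y * (y * g ^ (1 : ℤ) * y⁻¹) * y⁻¹ := by group
      _ = g := by rw [hycomm, hycomm, h9, zpow_one]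
  rw [hCz] at hy2
  obtain ⟨k, hk'⟩ := hy2
  change g ^ k = y * y at hk'
  have hkfix : g ^ (3 * k) = g ^ k := by rw [← hycomm, hk']; group
  rw [hpow] at hkfix
  have hk4 : (4 : ℤ) ∣ k := by omega
  -- `y * y` is central
  have hcentral : Commute (y * y) x := by
    rw [← hk']
    obtain ⟨j, rfl⟩ := hk4
    obtain ⟨i, hi⟩ := hKg _ (h.conj_mem x)
    have hxg : x * g * x⁻¹ = g ^ (1 + 2 * i) := by
      rw [zpow_add, zpow_one, ← hi, mul_inv_cancel_left]
    have : x * g ^ (4 * j) * x⁻¹ = g ^ (4 * j) := by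
      rw [← conj_zpow, hxg, ← zpow_mul, hpow]
      exact ⟨-(i * j), by ring⟩
    exact (mul_inv_eq_iff_eq_mul.1 this).symm
  have hone : ⁅y * y, x⁆ = 1 := commutatorElement_eq_one_iff_commute.2 hcentral
  have hexp : ⁅y * y, x⁆ = y * ⁅y, x⁆ * y⁻¹ * ⁅y, x⁆ := by
    simp only [commutatorElement_def]; group
  rw [hexp, hm, hycomm, ← zpow_add, ← zpow_zero g, hpow] at hone
  omega

end Cfsg.Agent.OneNonzero
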