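import Cfsg.Agent.Lib.OneNonzero.Chars
import Cfsg.Agent.Lib.OneNonzero.Two
import Cfsg.Agent.Lib.OneNonzero.FieldModel
import Cfsg.Agent.Lib.FpfFour.Main
import Cfsg.Agent.Lib.Transfer.Tate
import Cfsg.Agent.Lib.Solvable.NilpotentFrattini
import Cfsg.Agent.Lib.PLocal.FixedPointFree
import Mathlib.GroupTheory.Perm.Cycle.Type

/-!
Solvability of a group with a noncentral element seen by exactly one nonlinear irreducible
character.
-/

set_option autoImplicit false
set_option linter.style.haveILetI false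

open scoped commutatorElement Pointwise

namespace Cfsg.Agent.OneNonzero

open Cfsg.Agent Cfsg.Agent.Char

universe u

/-- A normal subgroup whose nontrivial elements are all conjugate is elementary abelian. -/
theorem exists_elementary {Q : Type*} [Group Q] [Finite Q] (A : Subgroup Q) [A.Normal] {g₀ : Q}
    (hg₀ : g₀ ∈ A) (hg1 : g₀ ≠ 1) (htr : ∀ a ∈ A, a ≠ 1 → IsConj g₀ a) :
    ∃ p : ℕ, p.Prime ∧ IsPGroup p A ∧ (∀ a ∈ A, a ^ p = 1) ∧
      ∀ a ∈ A, ∀ b ∈ A, a * b = b * a := by
  haveI : Nontrivial A := ⟨⟨⟨g₀, hg₀⟩, 1, fun h => hg1 (congrArg Subtype.val h)⟩⟩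
  obtain ⟨p, hp, hdvd⟩ := Nat.exists_prime_and_dvd (n := Nat.card A) (Finite.one_lt_card).ne'
  haveI : Fact p.Prime := ⟨hp⟩
  obtain ⟨b, hb⟩ := exists_prime_orderOf_dvd_card' p hdvd
  have hexp : ∀ a ∈ A, a ^ p = 1 := by
    intro a ha
    rcases eq_or_ne a 1 with rfl | ha1
    · exact one_pow p
    have hb1 : (b : Q) ≠ 1 := by
      intro h
      rw [show b = 1 from Subtype.ext h, orderOf_one] at hb
      exact hp.one_lt.ne hb
    obtain ⟨c, hc⟩ := isConj_iff.1 ((htr _ b.2 hb1).symm.trans (htr a ha ha1))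
    rw [← hc, conj_pow, ← hb, ← Subgroup.orderOf_coe, pow_orderOf_eq_one, mul_one, mul_inv_cancel]
  have hpA : IsPGroup p A := fun a => ⟨1, Subtype.ext (by simpa using hexp a a.2)⟩
  refine ⟨p, hp, hpA, hexp, ?_⟩
  haveI := hpA.center_nontrivial
  obtain ⟨⟨c, hc⟩, hc1⟩ := exists_ne (1 : Subgroup.center A)
  have hc1' : (c : Q) ≠ 1 := fun h => hc1 (Subtype.ext (Subtype.ext h))
  intro a ha b' hb'
  rcases eq_or_ne a 1 with rfl | ha1
  · simp
  obtain ⟨t, rfl⟩ := isConj_iff.1 ((htr _ c.2 hc1').symm.trans (htr a ha ha1))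
  have hb'' : t⁻¹ * b' * t ∈ A := by
    simpa using Subgroup.Normal.conj_mem ‹A.Normal› b' hb' t⁻¹
  have h1 := congrArg Subtype.val (Subgroup.mem_center_iff.1 hc ⟨_, hb''⟩)
  have h2 := congrArg (fun w => t * w * t⁻¹) h1
  simpa [mul_assoc] using h2.symm

variable {G : Type u} [Group G] [Finite G]

/-- In a subgroup `S` with `|S/(S∩K)| = |C_G(x)|`, commutation moves `x` over all of `x (S ∩ K)`. -/
theorem exists_conj_eq {S K : Subgroup G} [K.Normal] {x : S}
    (hcard : Nat.card (Subgroup.centralizer ({(x : G)} : Set G)) = (K.subgroupOf S).index)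
    (hx : ∀ t : S, x⁻¹ * (t * x * t⁻¹) ∈ K.subgroupOf S) {u : S} (hu : u ∈ K.subgroupOf S) :
    ∃ t : S, t * x * t⁻¹ = x * u := by
  classical
  haveI := Fintype.ofFinite S
  set N := K.subgroupOf S with hN
  set T := Finset.univ.image (fun v : N => x * (v : S)) with hT
  have hsub : classFinset x ⊆ T := by
    intro y hy
    rw [mem_classFinset] at hy
    obtain ⟨t, rfl⟩ := isConj_iff.1 hy
    exact Finset.mem_image.2 ⟨⟨_, hx t⟩, Finset.mem_univ _, mul_inv_cancel_left _ _⟩
  have hTcard : T.card ≤ Nat.card N := by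
    rw [Nat.card_eq_fintype_card]
    exact Finset.card_image_le
  have hC : Nat.card (Subgroup.centralizer ({x} : Set S)) ≤ N.index := by
    rw [← hcard]
    refine Nat.card_le_card_of_injective (fun c => ⟨((c : S) : G), ?_⟩) ?_
    · exact Subgroup.mem_centralizer_singleton_iff.2
        (congrArg Subtype.val (Subgroup.mem_centralizer_singleton_iff.1 c.2))
    · intro c c' h
      exact Subtype.ext (Subtype.ext (congrArg Subtype.val h :))
  have hle : Nat.card N ≤ (classFinset x).card := by
    rw [card_classFinset]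
    refine Nat.le_of_mul_le_mul_right ?_ (Nat.card_pos (α := Subgroup.centralizer ({x} : Set S)))
    calc Nat.card N * Nat.card (Subgroup.centralizer ({x} : Set S))
        ≤ Nat.card N * N.index := Nat.mul_le_mul_left _ hC
      _ = _ := by rw [Subgroup.card_mul_index, Subgroup.index_mul_card]
  have heq := Finset.eq_of_subset_of_card_le hsub (hTcard.trans hle)
  have hmem : x * u ∈ classFinset x :=
    heq ▸ Finset.mem_image.2 ⟨⟨u, hu⟩, Finset.mem_univ _, rfl⟩
  exact isConj_iff.1 (mem_classFinset.1 hmem)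

variable {g : G} {χ : Cfsg.IrrCharacter G}

/-- The solvability statement. -/
theorem OneData.isSolvable (h : OneData g χ) : Group.IsSolvable G := by
  classical
  haveI := Fintype.ofFinite G
  obtain ⟨K, hKn, hK, -⟩ := IsCharacter.exists_kernel (IsIrrCharacter.isCharacter χ.2)
  haveI := hKn
  set M := commutator G with hM
  have hgM : g ∈ M := h.mem_commutator.1
  have hgK : g ∉ K := fun hh => h.apply_ne_deg ((hK g).1 hh)
  have hMcases : ∀ x, x ∈ M ↔ x ∈ K ∨ IsConj g x := fun x => by
    rw [hK]; exact Set.ext_iff.1 h.commutator_eq x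
  have hKM : K ≤ M := fun x hx => (hMcases x).2 (Or.inl hx)
  set mk := QuotientGroup.mk' K with hmk
  have hmks : Function.Surjective mk := QuotientGroup.mk'_surjective K
  set A : Subgroup (G ⧸ K) := M.map mk with hA
  haveI : A.Normal := (inferInstance : M.Normal).map mk hmks
  set g₀ : G ⧸ K := mk g with hg₀
  have hg₀A : g₀ ∈ A := ⟨g, hgM, rfl⟩
  have hg₀1 : g₀ ≠ 1 := fun hh => hgK ((QuotientGroup.eq_one_iff g).1 hh)
  have htr : ∀ a ∈ A, a ≠ 1 → IsConj g₀ a := by
    rintro _ ⟨x, hx, rfl⟩ ha
    exact mk.map_isConj (((hMcases x).1 hx).resolve_left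
      fun hh => ha ((QuotientGroup.eq_one_iff x).2 hh))
  obtain ⟨p, hp, -, hexp, hab⟩ := exists_elementary A hg₀A hg₀1 htr
  haveI : Fact p.Prime := ⟨hp⟩
  have hQA : commutator (G ⧸ K) = A := by
    rw [hA, hM, commutator_def, commutator_def, Subgroup.map_commutator,
      Subgroup.map_top_of_surjective mk hmks]
  have hcommA : ∀ x y : G ⧸ K, ⁅x, y⁆ ∈ A := fun x y => hQA ▸
    Subgroup.commutator_mem_commutator (Subgroup.mem_top x) (Subgroup.mem_top y)
  set C0 : Subgroup (G ⧸ K) := Subgroup.centralizer (A : Set (G ⧸ K)) with hC0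
  haveI : C0.Normal := Subgroup.normal_centralizer
  have hAC0 : A ≤ C0 := fun a ha b hb => hab b hb a ha
  -- the stabiliser of a nontrivial element of `A` is `C0`
  have hstab : ∀ {q a : G ⧸ K}, a ∈ A → a ≠ 1 → q * a = a * q → q ∈ C0 := by
    intro q a ha ha1 hqa b hb
    rcases eq_or_ne b 1 with rfl | hb1
    · simp
    obtain ⟨y, rfl⟩ := isConj_iff.1 ((htr a ha ha1).symm.trans (htr b hb hb1))
    set w := y⁻¹ * q * y * q⁻¹ with hw
    have hwA : w ∈ A := by
      have := hcommA y⁻¹ q
      rwa [commutatorElement_def, inv_inv] at this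
    have hwa := hab w hwA a ha
    have h1 : q * y = y * w * q := by rw [hw]; group
    calc y * a * y⁻¹ * q = y * (a * (y⁻¹ * q * y * q⁻¹) * q) * y⁻¹ := by group
      _ = y * ((y⁻¹ * q * y * q⁻¹) * a * q) * y⁻¹ := by rw [← hw, hwa]
      _ = y * (y⁻¹ * q * y * q⁻¹) * (a * q) * y⁻¹ := by group
      _ = y * (y⁻¹ * q * y * q⁻¹) * (q * a) * y⁻¹ := by rw [hqa]
      _ = q * (y * a * y⁻¹) := by group
  -- counting
  set n := M.index with hn
  set e := Nat.card A with he
  set c := (Subgroup.centralizer ({g} : Set G)).index with hc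
  obtain ⟨hcount, hMcard⟩ := h.count hK
  have hAidx : A.index = n := Subgroup.index_map_eq _ hmks (by rwa [QuotientGroup.ker_mk'])
  have hQcard : Nat.card (G ⧸ K) = n * e := by rw [← hAidx, he, Subgroup.index_mul_card]
  have hGcard : Nat.card G = n * e * Nat.card K := by
    rw [← hQcard]; exact Subgroup.card_eq_card_quotient_mul_card_subgroup K
  have he2 : 2 ≤ e := by
    haveI : Nontrivial A := ⟨⟨⟨g₀, hg₀A⟩, 1, fun hh => hg₀1 (congrArg Subtype.val hh)⟩⟩
    exact Finite.one_lt_card
  have hn0 : 0 < n := Nat.pos_of_ne_zero Subgroup.index_ne_zero_of_finite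
  have hk0 : 0 < Nat.card K := Nat.card_pos
  have hce : c = (e - 1) * Nat.card K := by
    have h1 : Nat.card M * n = Nat.card G := Subgroup.card_mul_index M
    rw [hGcard, hMcard, show n * e * Nat.card K = (e * Nat.card K) * n by ring] at h1
    have h2 := Nat.eq_of_mul_eq_mul_right hn0 h1
    rw [Nat.sub_mul, one_mul]
    omega
  have hCg : Nat.card (Subgroup.centralizer ({g} : Set G)) * (e - 1) = n * e := by
    refine Nat.eq_of_mul_eq_mul_right hk0 ?_
    rw [mul_assoc, ← hce, hc, Subgroup.card_mul_index, hGcard]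
  have hclassA : (Subgroup.centralizer ({g₀} : Set (G ⧸ K))).index = e - 1 := by
    haveI := Fintype.ofFinite (G ⧸ K)
    rw [← card_classFinset, he, Nat.card_eq_fintype_card, Fintype.card_subtype,
      ← Finset.card_erase_of_mem (s := Finset.univ.filter (fun q => q ∈ A)) (a := (1 : G ⧸ K))
        (by simp)]
    congr 1
    ext q
    simp only [mem_classFinset, Finset.mem_erase, Finset.mem_filter, Finset.mem_univ, true_and]
    constructor
    · intro hq
      obtain ⟨t, rfl⟩ := isConj_iff.1 hq
      exact ⟨fun hh => hg₀1 (conj_eq_one_iff.1 hh),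
        Subgroup.Normal.conj_mem inferInstance _ hg₀A t⟩
    · exact fun hq => htr q hq.2 hq.1
  have hC0eq : Subgroup.centralizer ({g₀} : Set (G ⧸ K)) = C0 := by
    refine le_antisymm (fun q hq => hstab hg₀A hg₀1
      (Subgroup.mem_centralizer_singleton_iff.1 hq)) fun q hq => ?_
    exact Subgroup.mem_centralizer_singleton_iff.2 (hq g₀ hg₀A).symm
  rw [hC0eq] at hclassA
  have hC0card : Nat.card C0 = Nat.card (Subgroup.centralizer ({g} : Set G)) := by
    refine Nat.eq_of_mul_eq_mul_right (m := e - 1) (by omega) ?_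
    rw [hCg, ← hclassA, Subgroup.card_mul_index, hQcard]
  -- `C0` is a `p`-group
  have hcentral : ∀ z : G ⧸ K, (∀ q, Commute z q) → z ∈ A := by
    intro z hz
    obtain ⟨x, rfl⟩ := hmks z
    exact ⟨x, h.mem_of_central hK (fun y => hz y), rfl⟩
  have hC0p : IsPGroup p C0 := by
    refine PBasic.isPGroup_iff_forall_coprime.2 ?_
    rintro ⟨y, hy⟩ hcop
    rw [← Subgroup.orderOf_coe] at hcop
    change (orderOf y).Coprime p at hcop
    have hyc : ∀ q, Commute y q := by
      intro q
      set w := ⁅q, y⁆ with hw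
      have hwA : w ∈ A := hcommA q y
      have hwy : Commute w y := hy w hwA
      have h1 : w * y = q * y * q⁻¹ := by rw [hw, commutatorElement_def]; group
      have h2 : w ^ orderOf y = 1 := by
        have := congrArg (fun t => t ^ orderOf y) h1
        simpa [hwy.mul_pow, conj_pow, pow_orderOf_eq_one] using this
      have hw1 : w = 1 := by
        rw [← orderOf_eq_one_iff]
        exact Nat.dvd_one.1 (hcop ▸ Nat.dvd_gcd (orderOf_dvd_of_pow_eq_one h2)
          (orderOf_dvd_of_pow_eq_one (hexp w hwA)))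
      exact (commutatorElement_eq_one_iff_commute.1 hw1).symm
    have hyA := hcentral y hyc
    refine Subtype.ext ?_
    change y = 1
    rw [← orderOf_eq_one_iff]
    exact Nat.dvd_one.1 (hcop ▸ Nat.dvd_gcd dvd_rfl (orderOf_dvd_of_pow_eq_one (hexp y hyA)))
  obtain ⟨j, hj⟩ := IsPGroup.iff_card.1 hC0p
  have hCgp : IsPGroup p (Subgroup.centralizer ({g} : Set G)) :=
    IsPGroup.of_card (n := j) (hC0card ▸ hj)
  -- `e > 2` forces `C0 = A`
  have he3 : 3 ≤ e → C0 = A := by
    intro he3
    obtain ⟨q, hq, hqd⟩ := Nat.exists_prime_and_dvd (n := e - 1) (by omega)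
    haveI : Fact q.Prime := ⟨hq⟩
    have hqe : q ∣ Nat.card (G ⧸ K) :=
      hqd.trans (hclassA ▸ Subgroup.index_dvd_card C0)
    have hqp : q ≠ p := by
      rintro rfl
      obtain ⟨i, hi⟩ := IsPGroup.iff_card.1 (hC0p.to_le hAC0)
      rw [← he] at hi
      have hi0 : i ≠ 0 := by rintro rfl; rw [pow_zero] at hi; omega
      have h1 : q ∣ e := hi ▸ dvd_pow_self q hi0
      have h2 := Nat.dvd_sub h1 hqd
      rw [Nat.sub_sub_self (by omega : 1 ≤ e)] at h2
      exact hq.one_lt.ne' (Nat.dvd_one.1 h2)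
    obtain ⟨t, ht⟩ := exists_prime_orderOf_dvd_card' q hqe
    have htC : t ∉ C0 := by
      intro hh
      obtain ⟨k, hk⟩ := IsPGroup.iff_orderOf.1 hC0p ⟨t, hh⟩
      rw [← Subgroup.orderOf_coe] at hk
      change orderOf t = p ^ k at hk
      rw [ht] at hk
      exact hqp ((Nat.prime_dvd_prime_iff_eq hq hp).1 (hq.dvd_of_dvd_pow hk.dvd))
    have hfree : ∀ a ∈ A, t * a = a * t → a = 1 := fun a ha hta => by
      by_contra ha1
      exact htC (hstab ha ha1 hta)
    let φ : A → A := fun w => ⟨⁅(w : G ⧸ K), t⁆, hcommA _ _⟩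
    have hφ : Function.Surjective φ := by
      refine Finite.injective_iff_surjective.1 fun w w' hh => Subtype.ext ?_
      have h1 : ⁅(w : G ⧸ K), t⁆ = ⁅(w' : G ⧸ K), t⁆ := congrArg Subtype.val hh
      rw [commutatorElement_def, commutatorElement_def, mul_left_inj] at h1
      have h2 : ((w' : G ⧸ K)⁻¹ * w) * t = t * ((w' : G ⧸ K)⁻¹ * w) := by
        have := congrArg (fun v => (w' : G ⧸ K)⁻¹ * v * w) h1
        simpa [mul_assoc] using this
      exact (inv_mul_eq_one.1 (hfree _ (mul_mem (inv_mem w'.2) w.2) h2.symm)).symm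
    refine le_antisymm (fun b hb => ?_) hAC0
    obtain ⟨w, hw⟩ := hφ ⟨⁅b, t⁆, hcommA b t⟩
    have hw' : ⁅(w : G ⧸ K), t⁆ = ⁅b, t⁆ := congrArg Subtype.val hw
    set b' := (w : G ⧸ K)⁻¹ * b with hb'
    have hb'C : b' ∈ C0 := mul_mem (inv_mem (hAC0 w.2)) hb
    have hb't : b' * t = t * b' := by
      rw [commutatorElement_def, commutatorElement_def, mul_left_inj] at hw'
      have := congrArg (fun v => (w : G ⧸ K)⁻¹ * v * b) hw'
      simpa [hb', mul_assoc] using this.symm
    have hb'z : ∀ q, Commute b' q := by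
      intro q
      set w₁ := ⁅q, t⁆ with hw₁
      have h1 : Commute b' (q * t * q⁻¹) := by
        rw [show q * t * q⁻¹ = w₁ * t by rw [hw₁, commutatorElement_def]; group]
        exact (show Commute b' w₁ from (hb'C w₁ (hcommA _ _)).symm).mul_right
          (show Commute b' t from hb't)
      have h2 : Commute (q⁻¹ * b' * q) t := by
        have := h1.map (MulAut.conj q⁻¹).toMonoidHom
        simpa [mul_assoc] using this
      set v := ⁅q⁻¹, b'⁆ with hv
      have hvA : v ∈ A := hcommA _ _
      have h3 : Commute v t := by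
        rw [show v = (q⁻¹ * b' * q) * b'⁻¹ by rw [hv, commutatorElement_def, inv_inv]]
        exact h2.mul_left (show Commute b' t from hb't).inv_left
      have hv1 : v = 1 := hfree v hvA h3.eq.symm
      simpa using ((commutatorElement_eq_one_iff_commute.1 hv1).symm).inv_right
    rw [show b = (w : G ⧸ K) * b' by rw [hb', mul_inv_cancel_left]]
    exact mul_mem w.2 (hcentral b' hb'z)
  -- pass to a Sylow subgroup of the preimage of `C0`
  set G0 : Subgroup G := C0.comap mk with hG0
  haveI : G0.Normal := (inferInstance : C0.Normal).comap mk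
  have hKG0 : K ≤ G0 := fun x hx => by
    rw [hG0, Subgroup.mem_comap, hmk, QuotientGroup.mk'_apply, (QuotientGroup.eq_one_iff x).2 hx]
    exact one_mem _
  have hMG0 : M ≤ G0 := fun x hx => hAC0 ⟨x, hx, rfl⟩
  have hgp : IsPGroup p (Subgroup.zpowers (⟨g, hMG0 hgM⟩ : G0)) := by
    rintro ⟨z, i, rfl⟩
    obtain ⟨l, hl⟩ := hCgp ⟨g, Subgroup.mem_centralizer_singleton_iff.2 rfl⟩
    refine ⟨l, Subtype.ext (Subtype.ext ?_)⟩
    have hl' : g ^ p ^ l = 1 := congrArg Subtype.val hl
    simp only [SubgroupClass.coe_pow, SubgroupClass.coe_zpow, OneMemClass.coe_one]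
    rw [← zpow_natCast, ← zpow_mul, mul_comm, zpow_mul, zpow_natCast, hl', one_zpow]
  obtain ⟨P, hP⟩ := hgp.exists_le_sylow
  set S : Subgroup G := (P : Subgroup G0).map G0.subtype with hS
  have hSp : IsPGroup p S := P.isPGroup'.map _
  have hgS : g ∈ S := ⟨⟨g, hMG0 hgM⟩, hP (Subgroup.mem_zpowers _), rfl⟩
  have hSG0 : S ≤ G0 := Subgroup.map_subtype_le _
  set f : S →* G ⧸ K := mk.comp S.subtype with hf
  have hKidx : (K.subgroupOf G0).index = p ^ j := by
    have h1 : (f.range) ≤ C0 := by
      rintro _ ⟨x, rfl⟩; exact hSG0 x.2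
    have h2 : K.relIndex G0 = Nat.card C0 := by
      have h3 : (C0.comap mk).index = C0.index := Subgroup.index_comap_of_surjective _ hmks
      have h4 : K.relIndex G0 * G0.index = K.index := Subgroup.relIndex_mul_index hKG0
      rw [hG0, h3, show K.index = Nat.card (G ⧸ K) from rfl, ← Subgroup.card_mul_index C0] at h4
      exact Nat.eq_of_mul_eq_mul_right
        (Nat.pos_of_ne_zero Subgroup.index_ne_zero_of_finite) h4
    exact h2.trans hj
  have hPK : (P : Subgroup G0) ⊔ K.subgroupOf G0 = ⊤ :=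
    PBasic.sylow_sup_eq_top P (IsPGroup.of_card (n := j) hKidx)
  have hrange : f.range = C0 := by
    refine le_antisymm (by rintro _ ⟨x, rfl⟩; exact hSG0 x.2) fun q hq => ?_
    obtain ⟨x, rfl⟩ := hmks q
    have hxG0 : x ∈ G0 := hq
    have hx : (⟨x, hxG0⟩ : G0) ∈ (P : Subgroup G0) ⊔ K.subgroupOf G0 := hPK ▸ Subgroup.mem_top _
    rw [Subgroup.mem_sup_of_normal_right] at hx
    obtain ⟨a, ha, b, hb, hab'⟩ := hx
    refine ⟨⟨(a : G), a, ha, rfl⟩, ?_⟩
    change mk (a : G) = mk x
    rw [show x = (a : G) * (b : G) from (congrArg Subtype.val hab').symm, map_mul]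
    rw [show mk (b : G) = 1 from (QuotientGroup.eq_one_iff _).2 hb, mul_one]
  set N := K.subgroupOf S with hN
  have hker : f.ker = N := by
    ext x
    exact QuotientGroup.eq_one_iff (x : G)
  have hNidx : N.index = Nat.card C0 := by
    rw [← hker, Subgroup.index_ker, hrange]
  have hcls : ∀ x : S, (x : G) ∈ M → (x : G) ∉ K → ∀ u ∈ N, ∃ t : S, t * x * t⁻¹ = x * u := by
    intro x hxM hxK u hu
    have hconj : IsConj g (x : G) := ((hMcases _).1 hxM).resolve_left hxK
    refine exists_conj_eq ?_ (fun t => ?_) hu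
    · rw [hNidx, hC0card]
      have h1 : classFinset (x : G) = classFinset g := Finset.ext fun y => by
        simp only [mem_classFinset]
        exact ⟨fun hh => hconj.trans hh, fun hh => hconj.symm.trans hh⟩
      have h2 := congrArg Finset.card h1
      rw [card_classFinset, card_classFinset] at h2
      have h3 := Subgroup.card_mul_index (Subgroup.centralizer ({(x : G)} : Set G))
      rw [h2, ← Subgroup.card_mul_index (Subgroup.centralizer ({g} : Set G))] at h3
      exact Nat.eq_of_mul_eq_mul_right (Nat.pos_of_ne_zero Subgroup.index_ne_zero_of_finite) h3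
    · show x⁻¹ * (t * x * t⁻¹) ∈ N
      rw [← hker, MonoidHom.mem_ker, map_mul, map_mul, map_mul, map_inv, map_inv, inv_mul_eq_one,
        eq_mul_inv_iff_mul_eq]
      exact hSG0 t.2 (f x) ⟨x, hxM, rfl⟩
  have hNS : N ≤ commutator S := by
    intro u hu
    obtain ⟨t, ht⟩ := hcls ⟨g, hgS⟩ hgM hgK u hu
    have h1 : ⁅(⟨g, hgS⟩ : S)⁻¹, t⁆ = u := by
      rw [commutatorElement_def, inv_inv, show (⟨g, hgS⟩ : S)⁻¹ * t * ⟨g, hgS⟩ * t⁻¹ =
        (⟨g, hgS⟩ : S)⁻¹ * (t * ⟨g, hgS⟩ * t⁻¹) by group, ht, inv_mul_cancel_left]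
    exact h1 ▸ Subgroup.commutator_mem_commutator (Subgroup.mem_top _) (Subgroup.mem_top _)
  -- the order of `g`
  have hgord : (p ≠ 2 → g ^ p = 1) ∧ (p = 2 → g ^ 4 = 1) := by
    by_cases he2' : e = 2
    · -- `C0` is everything
      have hC0top : C0 = ⊤ := Subgroup.index_eq_one.1 (by rw [hclassA, he2'])
      have hfs : Function.Surjective f := MonoidHom.range_eq_top.1 (hrange.trans hC0top)
      have hSmem : ∀ x : S, x ∈ commutator S ↔ (x : G) ∈ M := by
        intro x
        have hmap : (commutator S).map f = A := by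
          rw [← hQA, commutator_def, commutator_def, Subgroup.map_commutator,
            Subgroup.map_top_of_surjective f hfs]
        constructor
        · intro hx
          obtain ⟨y, hy, hyx⟩ := (hmap ▸ Subgroup.mem_map_of_mem f hx : f x ∈ A)
          have h1 := (QuotientGroup.eq (s := K)).1 hyx
          simpa using mul_mem hy (hKM h1)
        · intro hx
          obtain ⟨y, hy, hyx⟩ := (hmap.symm ▸ ⟨(x : G), hx, rfl⟩ : f x ∈ (commutator S).map f)
          have h1 : y⁻¹ * x ∈ N := by
            rw [← hker, MonoidHom.mem_ker, map_mul, map_inv, hyx, inv_mul_cancel]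
          simpa using mul_mem hy (hNS h1)
      have hp2 : p = 2 := by
        obtain ⟨i, hi⟩ := IsPGroup.iff_card.1 (hC0p.to_le hAC0)
        rw [← he, he2'] at hi
        exact ((Nat.prime_dvd_prime_iff_eq hp Nat.prime_two).1
          (hi ▸ dvd_pow_self p (by rintro rfl; simp at hi)))
      have hA2 : ∀ a ∈ A, a = 1 ∨ a = g₀ := by
        intro a ha
        by_contra hcon
        push Not at hcon
        have h1 : ({1, g₀, a} : Finset (G ⧸ K)).card = 3 := by
          rw [Finset.card_insert_of_notMem, Finset.card_pair hcon.2.symm]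
          simp [hg₀1.symm, hcon.1.symm]
        have h2 : ({1, g₀, a} : Finset (G ⧸ K)).card ≤ Nat.card A := by
          rw [← Nat.card_eq_finsetCard]
          refine Nat.card_le_card_of_injective (fun z => ⟨z.1, ?_⟩)
            (fun z z' hh => Subtype.ext (congrArg Subtype.val hh :))
          have hz := z.2
          simp only [Finset.mem_insert, Finset.mem_singleton] at hz
          rcases hz with h3 | h3 | h3 <;> rw [h3]
          · exact one_mem A
          · exact hg₀A
          · exact ha
        omega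
      have hdata : TwoData S N (⟨g, hgS⟩ : S) := by
        refine ⟨hp2 ▸ hSp, hNS, (hSmem _).2 hgM, hgK, ?_, hcls _ hgM hgK, ?_⟩
        · intro x hx
          rcases hA2 (f x) ⟨x, (hSmem x).1 hx, rfl⟩ with h1 | h1
          · exact Or.inl (hker ▸ (h1 : x ∈ f.ker))
          · refine Or.inr ?_
            rw [← hker, MonoidHom.mem_ker, map_mul, map_inv, h1]
            exact inv_mul_cancel _
        · intro x hx
          by_contra hcon
          push Not at hcon
          refine hx ((hSmem x).2 ?_)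
          obtain ⟨y, hy, hyx⟩ := hcentral (f x) (fun q => by
            obtain ⟨y, rfl⟩ := hfs q
            refine commutatorElement_eq_one_iff_commute.1 ?_
            rw [← map_commutatorElement, ← MonoidHom.mem_ker, hker]
            exact hcon y)
          have h1 := (QuotientGroup.eq (s := K)).1 hyx
          simpa using mul_mem hy (hKM h1)
      exact ⟨fun hne => absurd hp2 hne, fun _ => congrArg Subtype.val hdata.pow_four⟩
    · have hC0A := he3 (by omega)
      have hG0M : ∀ x ∈ G0, x ∈ M := by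
        intro x hx
        obtain ⟨y, hy, hyx⟩ := (hC0A ▸ hx : mk x ∈ A)
        have h1 := (QuotientGroup.eq (s := K)).1 hyx
        simpa using mul_mem hy (hKM h1)
      have hS' : commutator S = N := by
        refine le_antisymm ?_ hNS
        rw [commutator_def, Subgroup.commutator_le]
        intro x _ y _
        rw [← hker, MonoidHom.mem_ker, map_commutatorElement, commutatorElement_eq_one_iff_commute]
        exact hab _ ⟨x, hG0M _ (hSG0 x.2), rfl⟩ _ ⟨y, hG0M _ (hSG0 y.2), rfl⟩
      let T : Set (MulAut S) := {θ | ∃ t : G, ∀ x : S, ((θ x : S) : G) = t * x * t⁻¹}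
      have hne : commutator S ≠ ⊤ := fun htop => hgK (show (⟨g, hgS⟩ : S) ∈ N from
        hS' ▸ htop ▸ Subgroup.mem_top _)
      have hMK : ∀ {m z : G}, m ∈ M → z ∈ M → mk (m * z * m⁻¹) = mk z := by
        intro m z hm hz
        rw [map_mul, map_mul, map_inv, hab _ ⟨m, hm, rfl⟩ _ ⟨z, hz, rfl⟩, mul_inv_cancel_right]
      have hc1 : ∀ a ∈ T, ∀ b ∈ T, ∀ x : S, (a (b x))⁻¹ * b (a x) ∈ commutator S := by
        rintro a ⟨s, hs⟩ b ⟨t, ht⟩ x
        rw [hS']
        refine (QuotientGroup.eq (s := K)).1 ?_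
        rw [hs (b x), ht (a x), hs x, ht x]
        have hxM : (x : G) ∈ M := hG0M _ (hSG0 x.2)
        have hts : s * t * (t * s)⁻¹ ∈ M := by
          rw [show s * t * (t * s)⁻¹ = ⁅s, t⁆ by rw [commutatorElement_def]; group]
          exact Subgroup.commutator_mem_commutator (Subgroup.mem_top _) (Subgroup.mem_top _)
        have := hMK hts (Subgroup.Normal.conj_mem inferInstance _ hxM (t * s))
        simp only [hmk, QuotientGroup.mk'_apply] at this
        rw [← QuotientGroup.mk'_apply, ← QuotientGroup.mk'_apply] at *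
        simpa [mul_assoc] using this
      have hc2 : ∀ x ∉ commutator S, ∀ y ∉ commutator S,
          ∃ a ∈ T, (a x)⁻¹ * y ∈ commutator S := by
        intro x hx y hy
        rw [hS'] at hx hy ⊢
        have hxM : (x : G) ∈ M := hG0M _ (hSG0 x.2)
        have hyM : (y : G) ∈ M := hG0M _ (hSG0 y.2)
        obtain ⟨t, ht⟩ := isConj_iff.1
          ((((hMcases _).1 hxM).resolve_left hx).symm.trans (((hMcases _).1 hyM).resolve_left hy))
        have htop : (Subgroup.normalizer (S : Set G)) ⊔ G0 = ⊤ := by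
          exact Sylow.normalizer_sup_eq_top P
        have htmem : t ∈ G0 ⊔ Subgroup.normalizer (S : Set G) := by
          rw [sup_comm, htop]; exact Subgroup.mem_top t
        rw [Subgroup.mem_sup_of_normal_left] at htmem
        obtain ⟨m, hm, r, hr, rfl⟩ := htmem
        let θ : MulAut S := MonoidHom.toMulEquiv
          ((MulAut.conj r).toMonoidHom.comp S.subtype |>.codRestrict S
            (fun z => (Subgroup.mem_normalizer_iff.1 hr _).1 z.2))
          ((MulAut.conj r⁻¹).toMonoidHom.comp S.subtype |>.codRestrict S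
            (fun z => (Subgroup.mem_normalizer_iff.1 (inv_mem hr) _).1 z.2))
          (by ext z; simp [mul_assoc]) (by ext z; simp [mul_assoc])
        refine ⟨θ, ⟨r, fun z => rfl⟩, (QuotientGroup.eq (s := K)).1 ?_⟩
        change mk (r * (x : G) * r⁻¹) = mk (y : G)
        rw [← ht, ← hMK (hG0M m hm) (Subgroup.Normal.conj_mem inferInstance _ hxM r)]
        congr 1
        group
      have hc3 : ∀ x ∉ commutator S, ∀ u ∈ commutator S, ∃ t : S, t * x * t⁻¹ = x * u := by
        intro x hx u hu
        rw [hS'] at hx hu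
        exact hcls x (hG0M _ (hSG0 x.2)) hx u hu
      obtain ⟨F, iF, iFin, iChar, θ, π, ω, hdata⟩ := exists_singerData hSp T hc1 hc2 hne hc3
      letI := iF
      haveI := iFin
      haveI := iChar
      have h1 := hdata.pow_eq_one (⟨g, hgS⟩ : S)
      refine ⟨fun hne2 => congrArg Subtype.val (h1.2 hne2), fun hp2 => ?_⟩
      have h2 := congrArg Subtype.val h1.1
      rw [hp2] at h2
      exact h2
  -- Tate
  haveI := P.isPGroup'.isNilpotent
  have hTate : Cfsg.HasNormalPComplement p (K.subgroupOf G0) := by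
    refine Tate.hasNormalPComplement_of_inf_le P _ ?_
    rintro x ⟨hxK, hxP⟩
    refine ⟨⟨x, hxP⟩, SolvStruct.commutator_le_frattini _ ?_, rfl⟩
    let e₁ : (P : Subgroup G0) ≃* S :=
      Subgroup.equivMapOfInjective _ G0.subtype G0.subtype_injective
    have h1 : e₁ ⟨x, hxP⟩ ∈ commutator S := hNS hxK
    have h2 := Subgroup.mem_map_of_mem e₁.symm.toMonoidHom h1
    rw [MulEquiv.coe_toMonoidHom, MulEquiv.symm_apply_apply, commutator_def,
      Subgroup.map_commutator, Subgroup.map_top_of_surjective _ e₁.symm.surjective,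
      ← commutator_def] at h2
    exact h2
  obtain ⟨R, hRn, hRc, l, hRl⟩ := PBasic.hasNormalPComplement_iff.1 hTate
  -- conjugation by `g` acts on `R` without fixed points
  set R' : Subgroup G := (R.map (K.subgroupOf G0).subtype).map G0.subtype with hR'
  have hRcard : Nat.card R' = Nat.card R := by
    rw [hR', Subgroup.card_map_of_injective G0.subtype_injective,
      Subgroup.card_map_of_injective (K.subgroupOf G0).subtype_injective]
  haveI : R.Characteristic := by
    have hEq : R = Cfsg.pResidual p (K.subgroupOf G0) := by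
      haveI := hRn
      refine le_antisymm (fun r hr => PBasic.mem_pResidual ?_)
        (PBasic.pResidual_le (IsPGroup.of_card (n := l) hRl))
      exact Nat.Coprime.coprime_dvd_left (Subgroup.orderOf_dvd_natCard R hr) hRc
    rw [hEq]
    exact PBasic.pResidual_characteristic p _
  haveI hR1 : (R.map (K.subgroupOf G0).subtype).Normal := inferInstance
  haveI : (K.subgroupOf G0).Normal := inferInstance
  have hR'n : ∀ t : G, ∀ r ∈ R', t * r * t⁻¹ ∈ R' := by
    rintro t _ ⟨_, ⟨r, hr, rfl⟩, rfl⟩
    let τ : MulAut G0 := MulAut.conjNormal t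
    have hτK : (K.subgroupOf G0).map τ.toMonoidHom = K.subgroupOf G0 := by
      refine Subgroup.eq_of_le_of_card_ge ?_
        (le_of_eq (Subgroup.card_map_of_injective τ.injective).symm)
      rintro _ ⟨z, hz, rfl⟩
      change ((τ z : G0) : G) ∈ K
      rw [MulAut.conjNormal_apply]
      exact hKn.conj_mem _ hz t
    let τK : MulAut (K.subgroupOf G0) :=
      (τ.subgroupMap (K.subgroupOf G0)).trans (MulEquiv.subgroupCongr hτK)
    have hr' : τK r ∈ R := by
      have := Subgroup.mem_map_of_mem τK.toMonoidHom hr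
      rwa [Subgroup.characteristic_iff_map_eq.1 ‹R.Characteristic› τK] at this
    exact ⟨_, ⟨τK r, hr', rfl⟩, rfl⟩
  haveI : R'.Normal := ⟨fun r hr t => hR'n t r hr⟩
  have hfpf : ∀ r ∈ R', g * r = r * g → r = 1 := by
    intro r hr hgr
    have h1 : orderOf r ∣ Nat.card R' := Subgroup.orderOf_dvd_natCard R' hr
    obtain ⟨i, hi⟩ := IsPGroup.iff_orderOf.1 hCgp
      ⟨r, Subgroup.mem_centralizer_singleton_iff.2 hgr.symm⟩
    rw [← Subgroup.orderOf_coe] at hi
    change orderOf r = p ^ i at hi
    rw [hRcard] at h1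
    rw [← orderOf_eq_one_iff]
    refine Nat.dvd_one.1 (Nat.dvd_gcd h1 (dvd_refl _) |>.trans (dvd_of_eq ?_))
    rw [hi]
    exact Nat.Coprime.pow_right i hRc
  have hfix : ∀ r : R', MulAut.conjNormal g r = r → r = 1 := fun r hr => by
    refine Subtype.ext (hfpf r r.2 ?_)
    have := congrArg Subtype.val hr
    rw [MulAut.conjNormal_apply] at this
    exact mul_inv_eq_iff_eq_mul.1 this
  have hRsol : Group.IsSolvable R' := by
    by_cases hp2 : p = 2
    · exact FpfFour.isSolvable (MulAut.conjNormal g)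
        (by rw [← map_pow, hgord.2 hp2, map_one]) hfix
    · haveI := FixedPointFreeThompson.isNilpotent_of_conj R' hp g (hgord.1 hp2) hfpf
      infer_instance
  -- assemble
  have hRK : R' ≤ K := by
    rintro _ ⟨_, ⟨r, -, rfl⟩, rfl⟩
    exact r.2
  have hKsol : Group.IsSolvable K := by
    haveI := hRsol
    haveI : Group.IsSolvable (R'.subgroupOf K) :=
      Group.isSolvable_of_isSolvable_injective (f := (Subgroup.subgroupOfEquivOfLe hRK).toMonoidHom)
        (Subgroup.subgroupOfEquivOfLe hRK).injective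
    have hidx : (R'.subgroupOf K).index = p ^ l := by
      have h1 := Subgroup.card_mul_index (R'.subgroupOf K)
      rw [Nat.card_congr (Subgroup.subgroupOfEquivOfLe hRK).toEquiv, hRcard,
        ← Nat.card_congr (Subgroup.subgroupOfEquivOfLe hKG0).toEquiv,
        ← Subgroup.card_mul_index R, hRl] at h1
      exact Nat.eq_of_mul_eq_mul_left Nat.card_pos h1
    haveI : Group.IsNilpotent (K ⧸ R'.subgroupOf K) :=
      (IsPGroup.of_card (n := l) hidx).isNilpotent
    exact Group.isSolvable_of_ker_le_range (R'.subgroupOf K).subtype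
      (QuotientGroup.mk' (R'.subgroupOf K)) (by simp)
  haveI := hKsol
  haveI : Group.IsSolvable A := Group.isSolvable_of_comm fun a b => Subtype.ext (hab _ a.2 _ b.2)
  haveI : Group.IsSolvable ((G ⧸ K) ⧸ A) := Group.isSolvable_of_comm fun a b => by
    obtain ⟨a, rfl⟩ := QuotientGroup.mk'_surjective A a
    obtain ⟨b, rfl⟩ := QuotientGroup.mk'_surjective A b
    refine commutatorElement_eq_one_iff_commute.1 ?_
    rw [← map_commutatorElement]
    exact (QuotientGroup.eq_one_iff _).2 (hcommA a b)
  haveI : Group.IsSolvable (G ⧸ K) :=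
    Group.isSolvable_of_ker_le_range A.subtype (QuotientGroup.mk' A) (by simp)
  exact Group.isSolvable_of_ker_le_range K.subtype mk (by simp [hmk])

end Cfsg.Agent.OneNonzero
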