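import Mathlib.FieldTheory.Finite.Basic
import Mathlib.Algebra.Module.ZMod
import Mathlib.Algebra.Algebra.ZMod
import Mathlib.RingTheory.IntegralDomain
import Mathlib.LinearAlgebra.Dual.Lemmas

/-!
Weights of a generator of the multiplicative group of a finite field `F` of order `q` on a group
of order less than `q` spanned by a biadditive image of `F × F`.
-/

set_option autoImplicit false
set_option linter.style.haveILetI false

namespace Cfsg.Agent.OneNonzero.Weights

universe u v

variable {F : Type u} [Field F] [Finite F]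

theorem exists_pow_eq {ω : F} (hω : orderOf ω = Nat.card F - 1) {x : F} (hx : x ≠ 0) :
    ∃ k : ℕ, x = ω ^ k := by
  haveI := Fintype.ofFinite F
  have h2 : 2 ≤ Nat.card F := Finite.one_lt_card
  have hω0 : ω ≠ 0 := by
    rintro rfl
    rw [orderOf_zero] at hω
    omega
  have htop : Subgroup.zpowers (Units.mk0 ω hω0) = ⊤ := by
    refine Subgroup.eq_top_of_card_eq _ ?_
    rw [Nat.card_zpowers, ← orderOf_units, Units.val_mk0, hω, Nat.card_units]
  have hmem : Units.mk0 x hx ∈ Subgroup.zpowers (Units.mk0 ω hω0) := htop ▸ Subgroup.mem_top _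
  rw [← mem_powers_iff_mem_zpowers] at hmem
  obtain ⟨k, hk⟩ := hmem
  exact ⟨k, by simpa using congrArg Units.val hk.symm⟩

omit [Finite F] in
theorem pow_card_sub_one {ω : F} (hω : orderOf ω = Nat.card F - 1) : ω ^ (Nat.card F - 1) = 1 :=
  hω ▸ pow_orderOf_eq_one ω

omit [Finite F] in
/-- A ring generated by `w`: a nonzero additive subgroup stable under `w` is everything. -/
theorem addSubgroup_eq_top {w : F} (hw : ∀ R : Subring F, w ∈ R → R = ⊤) (S : AddSubgroup F)
    (hS : ∀ x ∈ S, w * x ∈ S) {x : F} (hx : x ∈ S) (hx0 : x ≠ 0) : S = ⊤ := by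
  let R : Subring F :=
    { carrier := {r | ∀ y ∈ S, r * y ∈ S}
      one_mem' := fun y hy => by rwa [one_mul]
      mul_mem' := fun {r s} hr hs y hy => by rw [mul_assoc]; exact hr _ (hs y hy)
      zero_mem' := fun y _ => by rw [zero_mul]; exact zero_mem S
      add_mem' := fun {r s} hr hs y hy => by rw [add_mul]; exact add_mem (hr y hy) (hs y hy)
      neg_mem' := fun {r} hr y hy => by rw [neg_mul]; exact neg_mem (hr y hy) }
  rw [eq_top_iff]
  intro z _
  have : z * x⁻¹ ∈ R := (hw R hS) ▸ Subring.mem_top _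
  simpa [hx0] using this x hx

omit [Finite F] in
/-- An additive map into a group smaller than `F` with `w`-stable kernel is zero. -/
theorem eq_zero_of_stable {L : Type*} [AddCommGroup L] [Finite L] {w : F}
    (hw : ∀ R : Subring F, w ∈ R → R = ⊤) (hcard : Nat.card L < Nat.card F) (f : F →+ L)
    (hf : ∀ x, f x = 0 → f (w * x) = 0) : f = 0 := by
  obtain ⟨x, hx, hx0⟩ : ∃ x, f x = 0 ∧ x ≠ 0 := by
    by_contra hcon
    push Not at hcon
    refine hcard.not_ge (Nat.card_le_card_of_injective f ?_)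
    exact (injective_iff_map_eq_zero f).2 hcon
  have := addSubgroup_eq_top hw f.ker hf hx hx0
  exact AddMonoidHom.ext fun y => (this ▸ AddSubgroup.mem_top y : y ∈ f.ker)

variable {p a : ℕ} [hp : Fact p.Prime] [CharP F p]

omit hp [CharP F p] in
theorem one_le (ha : Nat.card F = p ^ a) : 1 ≤ a := by
  by_contra h
  have : 1 < Nat.card F := Finite.one_lt_card
  rw [ha, show a = 0 by omega, pow_zero] at this
  omega

theorem two_le_p : 2 ≤ p := hp.out.two_le

omit [CharP F p] in
/-- The elements of a proper subring lie in a proper subfield. -/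
theorem exists_small (ha : Nat.card F = p ^ a) {R : Subring F} (hR : R ≠ ⊤) {b : F} (hb : b ∈ R) :
    ∃ r : ℕ, 0 < r ∧ 2 * r ≤ a ∧ b ^ p ^ r = b := by
  classical
  haveI := Fintype.ofFinite R
  letI : Field R := Fintype.fieldOfDomain R
  letI : Algebra R F := R.subtype.toAlgebra
  haveI : Finite R := inferInstance
  haveI : Module.Finite R F := Module.Finite.of_finite
  have hcard : Nat.card F = Nat.card R ^ Module.finrank R F := Module.natCard_eq_pow_finrank
  obtain ⟨r, hra, hr⟩ := (Nat.dvd_prime_pow hp.out).1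
    (show Nat.card R ∣ p ^ a from ha ▸ hcard ▸ dvd_pow_self _ Module.finrank_pos.ne')
  rw [ha, hr, ← pow_mul] at hcard
  have hmul : a = r * Module.finrank R F := Nat.pow_right_injective hp.out.two_le hcard
  have hd : Module.finrank R F ≠ 1 := by
    intro h1
    refine hR ?_
    rw [h1, mul_one] at hmul
    have hc : Nat.card R = Nat.card F := by rw [hr, ha, hmul]
    have hsurj := ((Nat.bijective_iff_injective_and_card R.subtype).2
      ⟨Subtype.val_injective, hc⟩).2
    rw [eq_top_iff]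
    intro x _
    obtain ⟨y, rfl⟩ := hsurj x
    exact y.2
  have hr0 : 0 < r := by
    have := one_le ha
    rcases Nat.eq_zero_or_pos r with h | h
    · rw [h, zero_mul] at hmul; omega
    · exact h
  refine ⟨r, hr0, ?_, ?_⟩
  · rcases hn : Module.finrank R F with _ | _ | n
    · exact absurd hn Module.finrank_pos.ne'
    · exact absurd hn hd
    · rw [hn] at hmul; rw [hmul]; nlinarith
  · have := FiniteField.pow_card (⟨b, hb⟩ : R)
    rw [← Nat.card_eq_fintype_card, hr] at this
    simpa using congrArg Subtype.val this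

/-- A nonzero additive eigen-map for multiplication by `ω` is a Frobenius power. -/
theorem exists_frobenius (ha : Nat.card F = p ^ a) {ω γ : F} (hω : orderOf ω = Nat.card F - 1)
    (g : F →+ F) (hg : g ≠ 0) (h : ∀ x, g (ω * x) = γ * g x) :
    ∃ i < a, γ = ω ^ p ^ i := by
  classical
  have hpow : ∀ (k : ℕ) x, g (ω ^ k * x) = γ ^ k * g x := by
    intro k
    induction k with
    | zero => intro x; simp
    | succ k ih => intro x; rw [pow_succ, mul_assoc, ih, h, pow_succ, mul_assoc]
  have hg1 : g 1 ≠ 0 := by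
    intro h1
    refine hg (AddMonoidHom.ext fun x => ?_)
    rcases eq_or_ne x 0 with rfl | hx
    · simp
    · obtain ⟨k, rfl⟩ := exists_pow_eq hω hx
      simpa [h1] using hpow k 1
  let e : F →+* F :=
    { toFun := fun x => g x / g 1
      map_one' := div_self hg1
      map_mul' := fun x y => by
        rcases eq_or_ne x 0 with rfl | hx
        · simp
        · obtain ⟨k, rfl⟩ := exists_pow_eq hω hx
          have h2 := hpow k 1
          rw [mul_one] at h2
          rw [hpow, h2]
          field_simp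
      map_zero' := by simp
      map_add' := fun x y => by rw [map_add, add_div] }
  letI : Algebra (ZMod p) F := ZMod.algebra F p
  let ea : F →ₐ[ZMod p] F :=
    { toRingHom := e
      commutes' := fun r => RingHom.congr_fun (Subsingleton.elim (e.comp (algebraMap (ZMod p) F))
        (algebraMap (ZMod p) F)) r }
  haveI := Fintype.ofFinite F
  obtain ⟨⟨i, hi⟩, hn⟩ := (FiniteField.bijective_frobeniusAlgEquivOfAlgebraic_pow (ZMod p) F).2
    (AlgEquiv.ofBijective ea
      (Finite.injective_iff_bijective.1 ea.toRingHom.injective))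
  refine ⟨i, ?_, ?_⟩
  · have hfin : Module.finrank (ZMod p) F = a := by
      have := Module.natCard_eq_pow_finrank (K := ZMod p) (V := F)
      rw [ha, Nat.card_zmod] at this
      exact (Nat.pow_right_injective hp.out.two_le this).symm
    exact hfin ▸ hi
  · have h3 : e ω = ω ^ p ^ i := by
      have := congrArg (fun f => f ω) hn
      simp only [AlgEquiv.coe_pow, FiniteField.coe_frobeniusAlgEquivOfAlgebraic,
        pow_iterate, ZMod.card] at this
      exact this.symm
    have h4 : e ω = γ := by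
      change g ω / g 1 = γ
      have := h 1
      rw [mul_one] at this
      rw [this, mul_div_cancel_right₀ _ hg1]
    rw [← h4, h3]

/-- The arithmetic of two Frobenius exponents. -/
theorem nat_aux {p a k r : ℕ} (hp : 2 ≤ p) (hr0 : 0 < r) (hr : 2 * r ≤ a) (hk : 2 * k ≤ a)
    (hdvd : p ^ a - 1 ∣ (1 + p ^ k) * (p ^ r - 1)) : a = 2 * r := by
  by_contra hne
  have hlt : (1 + p ^ k) * (p ^ r - 1) < p ^ a - 1 := by
    have h1 : 1 < p ^ r := Nat.one_lt_pow hr0.ne' hp
    have h2 : p ^ k * p ^ r ≤ p ^ (a - 1) := by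
      rw [← pow_add]; exact Nat.pow_le_pow_right (by omega) (by omega)
    have h3 : p ^ r ≤ p ^ (a - 1) := Nat.pow_le_pow_right (by omega) (by omega)
    have h4 : 2 * p ^ (a - 1) ≤ p ^ a := by
      calc 2 * p ^ (a - 1) ≤ p * p ^ (a - 1) := Nat.mul_le_mul_right _ hp
        _ = p ^ a := by rw [← pow_succ', Nat.sub_add_cancel (by omega)]
    have h5 : (1 + p ^ k) * (p ^ r - 1) = p ^ r + p ^ k * p ^ r - (1 + p ^ k) := by
      rw [Nat.mul_sub, mul_one, add_mul, one_mul]
    have h6 : 1 ≤ p ^ k := Nat.one_le_pow _ _ (by omega)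
    rw [h5]
    omega
  have hpos : 0 < (1 + p ^ k) * (p ^ r - 1) :=
    Nat.mul_pos (by omega) (Nat.sub_pos_of_lt (Nat.one_lt_pow hr0.ne' hp))
  exact absurd (Nat.le_of_dvd hpos hdvd) hlt.not_ge

omit [CharP F p] in
/-- Exponent arithmetic: a power of `ω` for `p ^ i + p ^ j` rearranged with a small gap. -/
theorem exp_arith (ha : Nat.card F = p ^ a) {ω : F} (hω : orderOf ω = Nat.card F - 1)
    {i j r : ℕ} (hi : i < a) (hj : j < a) (hr0 : 0 < r) (hr : 2 * r ≤ a)
    (h : (ω ^ (p ^ i + p ^ j)) ^ p ^ r = ω ^ (p ^ i + p ^ j)) : a = 2 * r := by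
  wlog hij : i ≤ j generalizing i j
  · exact this hj hi (by rwa [add_comm]) (by omega)
  have hω0 : ω ≠ 0 := by
    rintro rfl
    rw [orderOf_zero] at hω
    have : 1 < Nat.card F := Finite.one_lt_card
    omega
  obtain ⟨k, rfl⟩ := Nat.exists_eq_add_of_le hij
  have hpr : 1 ≤ p ^ r := Nat.one_le_pow _ _ hp.out.pos
  have h1 : ω ^ (p ^ i * ((1 + p ^ k) * (p ^ r - 1))) = 1 := by
    have h2 : ω ^ ((p ^ i + p ^ (i + k)) * (p ^ r - 1)) * ω ^ (p ^ i + p ^ (i + k)) =
        1 * ω ^ (p ^ i + p ^ (i + k)) := by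
      rw [one_mul, ← pow_add, ← Nat.mul_succ, Nat.succ_eq_add_one, Nat.sub_add_cancel hpr, pow_mul]
      exact h
    rw [← mul_assoc, mul_add, mul_one, ← pow_add]
    exact mul_right_cancel₀ (pow_ne_zero _ hω0) h2
  have hdvd : p ^ a - 1 ∣ p ^ i * ((1 + p ^ k) * (p ^ r - 1)) := by
    rw [← ha, ← hω]; exact orderOf_dvd_of_pow_eq_one h1
  have hcop : ∀ n, Nat.Coprime (p ^ a - 1) (p ^ n) := by
    intro n
    refine Nat.Coprime.pow_right n ((hp.out.coprime_iff_not_dvd).2 fun hd => ?_).symm
    have hd2 : p ∣ p ^ a := dvd_pow_self p (by omega)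
    have h3 : p ∣ p ^ a - (p ^ a - 1) := Nat.dvd_sub hd2 hd
    rw [Nat.sub_sub_self (Nat.one_le_pow _ _ hp.out.pos)] at h3
    exact hp.out.one_lt.ne' (Nat.dvd_one.1 h3)
  have hdvd' := (hcop i).dvd_of_dvd_mul_left hdvd
  rcases Nat.lt_or_ge a (2 * k) with hlt | hge
  · -- replace `k` by `a - k`
    refine nat_aux (k := a - k) hp.out.two_le hr0 hr (by omega) ?_
    have h2 : p ^ a - 1 ∣ p ^ (a - k) * ((1 + p ^ k) * (p ^ r - 1)) := Dvd.dvd.mul_left hdvd' _
    have e : p ^ (a - k) * p ^ k = p ^ a := by rw [← pow_add]; congr 1; omega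
    have h3 : p ^ (a - k) * ((1 + p ^ k) * (p ^ r - 1)) =
        (1 + p ^ (a - k)) * (p ^ r - 1) + (p ^ a - 1) * (p ^ r - 1) := by
      rw [← add_mul, ← mul_assoc, mul_add, mul_one, e]
      congr 1
      have : 1 ≤ p ^ a := Nat.one_le_pow _ _ hp.out.pos
      omega
    rw [h3] at h2
    exact (Nat.dvd_add_left (dvd_mul_right _ _)).1 h2
  · exact nat_aux hp.out.two_le hr0 hr (by omega) hdvd'

omit hp [CharP F p] [Finite F] in
theorem eigen_sum {L : Type*} [AddCommGroup L] (Θ : L → L) (φ : L → F) (u : Fˣ) {n : ℕ}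
    (hn : (u : F) ^ n = 1) (hΘ : ∀ l, Θ^[n] l = l) (l : L) :
    (u : F) * ∑ k ∈ Finset.range n, (u : F) ^ k * φ (Θ^[k] (Θ l)) =
      ∑ k ∈ Finset.range n, (u : F) ^ k * φ (Θ^[k] l) := by
  set f : ℕ → F := fun k => (u : F) ^ k * φ (Θ^[k] l) with hf
  have h1 : (u : F) * ∑ k ∈ Finset.range n, (u : F) ^ k * φ (Θ^[k] (Θ l)) =
      ∑ k ∈ Finset.range n, f (k + 1) := by
    rw [Finset.mul_sum]
    refine Finset.sum_congr rfl fun k _ => ?_
    rw [hf]
    simp only [Function.iterate_succ_apply, pow_succ]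
    ring
  rw [h1]
  have h2 : f n = f 0 := by simp [hf, hn, hΘ]
  have h3 := Finset.sum_range_succ f n
  have h4 := Finset.sum_range_succ' f n
  rw [h3, h2] at h4
  exact (add_right_cancel h4).symm

omit hp [CharP F p] in
theorem sum_eigen {L : Type*} (Θ : L → L) (φ : L → F) [Fintype F] [DecidableEq F] (l : L) :
    ∑ u : Fˣ, ∑ k ∈ Finset.range (Nat.card F - 1), (u : F) ^ k * φ (Θ^[k] l) = - φ l := by
  rw [Finset.sum_comm]
  have hq : 1 < Nat.card F := Finite.one_lt_card
  rw [Finset.sum_eq_single 0]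
  · rw [← Finset.sum_mul, Function.iterate_zero_apply, FiniteField.sum_pow_units,
      if_pos (dvd_zero _), neg_one_mul]
  · intro k hk hk0
    rw [← Finset.sum_mul, FiniteField.sum_pow_units, if_neg, zero_mul]
    intro hd
    rw [← Nat.card_eq_fintype_card] at hd
    exact hk0 (Nat.eq_zero_of_dvd_of_lt hd (Finset.mem_range.1 hk))
  · intro h
    exact absurd (Finset.mem_range.2 (by omega)) h

/-- Eigenvalues of a small target of an equivariant biadditive map. -/
theorem eigenvalue (ha : Nat.card F = p ^ a) {ω β : F} (hω : orderOf ω = Nat.card F - 1)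
    {L : Type*} [AddCommGroup L] [Finite L] (hcard : Nat.card L < Nat.card F) (Θ : L →+ L)
    (c : F →+ F →+ L) (hc : ∀ x y, c (ω * x) (ω * y) = Θ (c x y))
    (hgen : AddSubgroup.closure (Set.range fun z : F × F => c z.1 z.2) = ⊤)
    (ψ : L →+ F) (hψ : ψ ≠ 0) (hβ : ∀ l, ψ (Θ l) = β * ψ l) :
    Even a ∧ β ^ p ^ (a / 2) = β := by
  classical
  haveI := Fintype.ofFinite F
  -- `β` lies in a proper subfield
  obtain ⟨r, hr0, hr, hβr⟩ : ∃ r, 0 < r ∧ 2 * r ≤ a ∧ β ^ p ^ r = β := by
    by_cases hgenβ : ∀ R : Subring F, β ∈ R → R = ⊤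
    · exfalso
      obtain ⟨l, hl⟩ : ∃ l, ψ l ≠ 0 := by
        by_contra hcon
        push Not at hcon
        exact hψ (AddMonoidHom.ext hcon)
      have htop := addSubgroup_eq_top hgenβ ψ.range
        (by rintro x ⟨l, rfl⟩; exact ⟨Θ l, hβ l⟩) ⟨l, rfl⟩ hl
      refine hcard.not_ge (Nat.card_le_card_of_surjective ψ fun x => ?_)
      exact (htop ▸ AddSubgroup.mem_top x : x ∈ ψ.range)
    · push Not at hgenβ
      obtain ⟨R, hR, hR'⟩ := hgenβ
      exact exists_small ha hR' hR
  obtain ⟨x₀, y₀, hxy⟩ : ∃ x y, ψ (c x y) ≠ 0 := by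
    by_contra hcon
    push Not at hcon
    refine hψ (AddMonoidHom.ext fun l => ?_)
    have hle : AddSubgroup.closure (Set.range fun z : F × F => c z.1 z.2) ≤ ψ.ker :=
      (AddSubgroup.closure_le _).2 (by rintro - ⟨z, rfl⟩; exact hcon z.1 z.2)
    exact hle (hgen ▸ AddSubgroup.mem_top l)
  -- split off an eigen-map in the second variable
  set n := Nat.card F - 1 with hn
  have hper : ∀ y : F, (fun y => ω * y)^[n] y = y := by
    intro y
    rw [mul_left_iterate, hn, pow_card_sub_one hω]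
    simp
  have hun : ∀ u : Fˣ, (u : F) ^ n = 1 := fun u => by
    rw [hn, Nat.card_eq_fintype_card]; exact FiniteField.pow_card_sub_one_eq_one _ u.ne_zero
  obtain ⟨u, hu⟩ : ∃ u : Fˣ, ∑ k ∈ Finset.range n,
      (u : F) ^ k * ψ (c x₀ ((fun y => ω * y)^[k] y₀)) ≠ 0 := by
    by_contra hcon
    push Not at hcon
    have := sum_eigen (F := F) (fun y => ω * y) (fun y => ψ (c x₀ y)) y₀
    rw [Finset.sum_eq_zero fun u _ => hcon u, eq_comm, neg_eq_zero] at this
    exact hxy this
  let B : F → F → F := fun x y =>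
    ∑ k ∈ Finset.range n, (u : F) ^ k * ψ (c x ((fun y => ω * y)^[k] y))
  have hBl : ∀ x x' y, B (x + x') y = B x y + B x' y := by
    intro x x' y
    simp only [B, map_add, AddMonoidHom.add_apply, mul_add, Finset.sum_add_distrib]
  have hBr : ∀ x y y', B x (y + y') = B x y + B x y' := by
    intro x y y'
    simp only [B, mul_left_iterate, mul_add, map_add, Finset.sum_add_distrib]
  have hB1 : ∀ x y, B x (ω * y) = (u : F)⁻¹ * B x y := by
    intro x y
    rw [eq_inv_mul_iff_mul_eq₀ u.ne_zero]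
    exact eigen_sum (fun y => ω * y) (fun y => ψ (c x y)) u (hun u) hper y
  have hB2 : ∀ x y, B (ω * x) (ω * y) = β * B x y := by
    intro x y
    simp only [B, Finset.mul_sum]
    refine Finset.sum_congr rfl fun k _ => ?_
    rw [mul_left_iterate]
    dsimp only
    rw [show ω ^ k * (ω * y) = ω * (ω ^ k * y) by ring, hc, hβ]
    ring
  obtain ⟨i, hi, hiu⟩ := exists_frobenius ha hω (γ := (u : F)⁻¹)
    (AddMonoidHom.mk' (B x₀) (hBr x₀)) (fun h => hu (DFunLike.congr_fun h y₀)) (hB1 x₀)
  obtain ⟨j, hj, hju⟩ := exists_frobenius ha hω (γ := β * (u : F))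
    (AddMonoidHom.mk' (fun x => B x y₀) (fun x x' => hBl x x' y₀))
    (fun h => hu (DFunLike.congr_fun h x₀)) (fun x => by
      have h1 := hB2 x y₀
      rw [hB1] at h1
      change B (ω * x) y₀ = β * u * B x y₀
      rw [mul_comm β (u : F), mul_assoc, ← h1, mul_inv_cancel_left₀ u.ne_zero])
  have hβeq : β = ω ^ (p ^ i + p ^ j) := by
    rw [pow_add, ← hiu, ← hju, mul_comm β, inv_mul_cancel_left₀ u.ne_zero]
  have ha2 := exp_arith ha hω hi hj hr0 hr (by rw [← hβeq]; exact hβr)
  refine ⟨⟨r, by omega⟩, ?_⟩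
  rwa [show a / 2 = r by omega]

omit [Finite F] in
/-- Additive maps into `F` separate the points of a `ZMod p`-module. -/
theorem exists_functional {L : Type*} [AddCommGroup L] [Module (ZMod p) L] {l : L} (hl : l ≠ 0) :
    ∃ φ : L →+ F, φ l ≠ 0 := by
  letI : Algebra (ZMod p) F := ZMod.algebra F p
  obtain ⟨f, hf⟩ := not_forall.1 fun hh =>
    hl ((Module.forall_dual_apply_eq_zero_iff (ZMod p) l).1 hh)
  exact ⟨(algebraMap (ZMod p) F).toAddMonoidHom.comp f.toAddMonoidHom,
    fun he => hf ((algebraMap (ZMod p) F).injective (he.trans (map_zero _).symm))⟩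

/-- A power of `ω` still generating `F` that is trivial on every small image of `F × F`. -/
theorem exists_exponent (ha : Nat.card F = p ^ a) {ω : F} (hω : orderOf ω = Nat.card F - 1) :
    ∃ m : ℕ, (∀ R : Subring F, ω ^ m ∈ R → R = ⊤) ∧
      ∀ (L : Type v) [AddCommGroup L] [Finite L], Nat.card L < Nat.card F →
        (∀ l : L, p • l = 0) → ∀ (Θ : L →+ L) (c : F →+ F →+ L),
        (∀ x y, c (ω * x) (ω * y) = Θ (c x y)) →
        AddSubgroup.closure (Set.range fun z : F × F => c z.1 z.2) = ⊤ →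
        ∀ l, Θ^[m] l = l := by
  classical
  haveI := Fintype.ofFinite F
  have h1F : 1 < Nat.card F := Finite.one_lt_card
  have hω0 : ω ≠ 0 := by
    rintro rfl
    rw [orderOf_zero] at hω
    omega
  refine ⟨if Even a then p ^ (a / 2) - 1 else 1, ?_, ?_⟩
  · intro R hR
    by_contra hne
    obtain ⟨r, hr0, hr, hb⟩ := exists_small ha hne hR
    set m := if Even a then p ^ (a / 2) - 1 else 1 with hm
    have hm0 : 0 < m := by
      rw [hm]
      split_ifs with he
      · exact Nat.sub_pos_of_lt (Nat.one_lt_pow (by have := one_le ha; obtain ⟨b, rfl⟩ := he; omega)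
          hp.out.two_le)
      · exact one_pos
    have hmle : m ≤ p ^ (a / 2) - 1 := by
      rw [hm]
      split_ifs
      · exact le_rfl
      · exact Nat.le_sub_one_of_lt (Nat.one_lt_pow (by omega) hp.out.two_le)
    have h1r : 1 < p ^ r := Nat.one_lt_pow hr0.ne' hp.out.two_le
    have hpow : ω ^ (m * (p ^ r - 1)) = 1 := by
      refine mul_right_cancel₀ (pow_ne_zero m hω0) ?_
      rw [one_mul, ← pow_add, ← Nat.mul_succ, Nat.succ_eq_add_one,
        Nat.sub_add_cancel h1r.le, pow_mul]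
      exact hb
    have hle := Nat.le_of_dvd (Nat.mul_pos hm0 (Nat.sub_pos_of_lt h1r))
      (orderOf_dvd_of_pow_eq_one hpow)
    rw [hω, ha] at hle
    have h2 : p ^ r ≤ p ^ (a / 2) := Nat.pow_le_pow_right hp.out.pos (by omega)
    have h3 : p ^ (a / 2) * p ^ (a / 2) ≤ p ^ a := by
      rw [← pow_add]; exact Nat.pow_le_pow_right hp.out.pos (by omega)
    have h4 : m * (p ^ r - 1) ≤ (p ^ (a / 2) - 1) * (p ^ (a / 2) - 1) :=
      Nat.mul_le_mul hmle (by omega)
    have h5 : (p ^ (a / 2) - 1) * (p ^ (a / 2) - 1) + (p ^ (a / 2) - 1) ≤ p ^ a - p ^ (a / 2) := by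
      rw [← Nat.mul_succ, Nat.succ_eq_add_one, Nat.sub_add_cancel (Nat.one_le_pow _ _ hp.out.pos),
        Nat.sub_mul, one_mul]
      omega
    have h6 : 1 < p ^ (a / 2) := Nat.one_lt_pow (by omega) hp.out.two_le
    omega
  intro L _ _ hcard hpL Θ c hc hgen
  set m := if Even a then p ^ (a / 2) - 1 else 1 with hm
  set n := Nat.card F - 1 with hn
  have hΘn : ∀ l, Θ^[n] l = l := by
    have hit : ∀ k x y, Θ^[k] (c x y) = c (ω ^ k * x) (ω ^ k * y) := by
      intro k
      induction k with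
      | zero => intro x y; simp
      | succ k ih =>
        intro x y
        rw [Function.iterate_succ_apply', ih, ← hc, pow_succ', mul_assoc, mul_assoc]
    intro l
    have hl : l ∈ AddSubgroup.closure (Set.range fun z : F × F => c z.1 z.2) :=
      hgen ▸ AddSubgroup.mem_top l
    induction hl using AddSubgroup.closure_induction with
    | mem z hz =>
      obtain ⟨⟨x, y⟩, rfl⟩ := hz
      dsimp only
      rw [hit, hn, pow_card_sub_one hω, one_mul, one_mul]
    | zero => exact iterate_map_zero Θ n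
    | add x y _ _ hx hy => rw [iterate_map_add, hx, hy]
    | neg x _ hx => rw [iterate_map_neg, hx]
  intro l
  by_contra hne
  -- a functional separating `Θ^[m] l` and `l`
  obtain ⟨φ, hφ⟩ := @exists_functional F _ p _ _ L _ (AddCommGroup.zmodModule hpL) _
    (sub_ne_zero.2 hne)
  have hφl : φ (Θ^[m] l) ≠ φ l := fun he => hφ (by rw [map_sub, he, sub_self])
  refine hφl (neg_injective ?_)
  rw [← sum_eigen (F := F) Θ φ, ← sum_eigen (F := F) Θ φ]
  refine Finset.sum_congr rfl fun u _ => ?_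
  let ψ : L →+ F := AddMonoidHom.mk' (fun l => ∑ k ∈ Finset.range n, (u : F) ^ k * φ (Θ^[k] l))
    (fun x y => by simp only [iterate_map_add, map_add, mul_add, Finset.sum_add_distrib])
  change ψ (Θ^[m] l) = ψ l
  by_cases hψ : ψ = 0
  · rw [hψ]; rfl
  have hun : (u : F) ^ n = 1 := by
    rw [hn, Nat.card_eq_fintype_card]; exact FiniteField.pow_card_sub_one_eq_one _ u.ne_zero
  have hev : ∀ l, ψ (Θ l) = (u : F)⁻¹ * ψ l := by
    intro l
    rw [eq_inv_mul_iff_mul_eq₀ u.ne_zero]
    exact eigen_sum Θ φ u hun hΘn l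
  obtain ⟨heven, hpow⟩ := eigenvalue ha hω hcard Θ c hc hgen ψ hψ hev
  have hit : ∀ k l, ψ (Θ^[k] l) = (u : F)⁻¹ ^ k * ψ l := by
    intro k
    induction k with
    | zero => intro l; simp
    | succ k ih => intro l; rw [Function.iterate_succ_apply', hev, ih, pow_succ', mul_assoc]
  rw [hit, hm, if_pos heven]
  have h1 : (u : F)⁻¹ ^ (p ^ (a / 2) - 1) = 1 := by
    refine mul_right_cancel₀ (inv_ne_zero u.ne_zero) ?_
    rw [one_mul, ← pow_succ, Nat.sub_add_cancel (Nat.one_le_pow _ _ hp.out.pos)]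
    exact hpow
  rw [h1, one_mul]

end Cfsg.Agent.OneNonzero.Weights
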